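import Cfsg.Agent.MQ.S.M35.Loc
import Cfsg.Agent.MK.S.Pc
import Cfsg.Agent.MQ.S.B.Tri
import Cfsg.Agent.TAB.F23C.Main
import Cfsg.Agent.H839.SeventeenMain_m3
import Cfsg.Agent.S2080
import Cfsg.Agent.MQ.S.E62Y.Dat
import Cfsg.Agent.MQ.Z.LV.W.E8b
import Cfsg.Agent.OddHalf.D9.EEight.Id.Main
import Cfsg.Agent.S1093
import Cfsg.Agent.FastGrp
import Cfsg.Agent.Prune
set_option linter.all false
prune_inst 0x7f00000000000000000000000000000000000000000000000000000000000000000000000000000000000000000000000000000000000000000000000000000000000000000000000000000000000000003fffffffffffffffffffffffffffbeffbdffffffff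
open scoped Cfsg.Agent.FastGrp

-- part: MO/L/Ext
section
/-!
# MO, the local count (helper4): `N / Q` need not be faithful on `Q / Q'`

* `eq_of_chk` : a subgroup between `Q` and `N` which contains elements with the matrices of the check is `N`;
* `chkE`, `fN_of_chkE`, `k0_of_chkE` : the generators `g i` of `N` modulo `Q` also permute `e` points `ω k` of some action of
  `X`, and the group which they induce on `Q / Q'` and on these points has the order `n`; the automorphism maps `g i` into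
  the coset of the word `ws i`.  `tools/P3/loc.py` writes the certificate.
-/

set_option autoImplicit false

namespace Cfsg.Agent.MO.L

open Cfsg Subgroup Cfsg.Agent.MO.T
open Cfsg.Agent.MK.S.Pc (ev ev_nil ev_cons)
open scoped commutatorElement

variable {X : Type} [Group X] {p d : ℕ} {Q N : Subgroup X} {q : ℕ → X}

theorem eq_of_chk [Finite X] [Fact p.Prime] (h : Loc p d Q q) (hN : N ≤ normalizer (Q : Set X)) {n : ℕ}
    (hn : Nat.card N ≤ Nat.card Q * n) {K : Subgroup X} (hQK : Q ≤ K) (hKN : K ≤ N) {Ms : List (List (List ℕ))}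
    (hM : ∀ M ∈ Ms, ∃ g ∈ K, Mt d Q q (fun x => g * x * g⁻¹) M) {prog : List ℕ} {c : ℕ}
    (hc : chkM p d Ms (idM d) prog n c = true) : K = N :=
  eq_of_le_of_card_ge hKN (hn.trans (fN_card_of_chk h hQK (hKN.trans hN) ((card_le_of_le hKN).trans hn) hM
    (fun _ => Iff.rfl) (fun _ => Iff.rfl) h.mt_one hc).2.ge)

/-- the table of a matrix and a permutation of the further points -/
noncomputable def tabE (p d e : ℕ) (M : List (List ℕ)) (σ : List ℕ) : ℕ :=
  tb (p ^ d + e) fun x => Bool.rec (motive := fun _ => ℕ) (Nat.add (p ^ d) (σ.getD (Nat.sub x (p ^ d)) 0)) (img p d M x)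
    (Nat.blt x (p ^ d))

noncomputable def mapK (f : ℕ → ℕ) (l : List ℕ) : (List ℕ → Bool) → Bool :=
  List.rec (fun k => k []) (fun i _ ih k => frc (f i) fun t => ih fun r => k (t :: r)) l

theorem mapK_eq (f : ℕ → ℕ) (l : List ℕ) : ∀ k, mapK f l k = k (l.map f) := by
  induction l with
  | nil => exact fun _ => rfl
  | cons i l ih =>
    intro k
    change (frc (f i) fun t => mapK f l fun r => k (t :: r)) = _
    rw [frc_eq, ih]
    rfl

/-- the table of a word -/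
noncomputable def wd (D : ℕ) (ts w : List ℕ) : ℕ :=
  List.rec (tb D fun x => x) (fun a _ ih => frc ih fun s => cmp D (ts.getD a 0) s) w

/-- the list is closed under the generators -/
noncomputable def cls (D : ℕ) (ts : List ℕ) (L : List (ℕ × ℕ)) : Bool :=
  L.all fun c => ts.all fun t => frc (cmp D c.1 t) fun u => memB u L

/-- **the check** -/
noncomputable def chkE (p d e r : ℕ) (Ms : List (List (List ℕ))) (σs ws : List (List ℕ)) (M : List (List ℕ)) (prog : List ℕ)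
    (n c : ℕ) : Bool :=
  Nat.ble (p ^ d + e) 4096 && n % p != 0 &&
    ((List.range r).all fun i => ((List.range e).all fun k => Nat.blt ((σs.getD i []).getD k 0) e) &&
      (ws.getD i []).all fun a => Nat.blt a r) &&
    mapK (fun i => tabE p d e (Ms.getD i []) (σs.getD i [])) (List.range r) fun ts =>
      mapK (fun i => wd (p ^ d + e) ts (ws.getD i [])) (List.range r) fun ss => frc (tab p d M) fun μ =>
        (lst (p ^ d + e) (ts.zip ts) prog fun L => Nat.beq L.length n && ndp L && cls (p ^ d + e) ts L) &&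
          chk (p ^ d + e) (p ^ d) (((List.range d).map fun j => p ^ j) ++ (List.range e).map fun k => p ^ d + k)
            (ts.zip ss) μ prog n (c * n)

section

variable {Ω : Type} [MulAction X Ω] [(Q.subgroupOf N).Normal] [DistribMulAction (N ⧸ Q.subgroupOf N) (Ab Q)]

/-- the element acts by the table -/
structure Ac (p d e : ℕ) (Q : Subgroup X) (q : ℕ → X) (ω : ℕ → Ω) [(Q.subgroupOf N).Normal]
    [DistribMulAction (N ⧸ Q.subgroupOf N) (Ab Q)] (y : N) (t : ℕ) : Prop where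
  v : ∀ x < p ^ d, get t x < p ^ d ∧ (y : N ⧸ Q.subgroupOf N) • cd p d Q q x = cd p d Q q (get t x)
  w : ∀ k < e, ∃ k' < e, get t (p ^ d + k) = p ^ d + k' ∧ (y : X) • ω k = ω k'

variable {e : ℕ} {ω : ℕ → Ω}

theorem Ac.one (hD : p ^ d + e ≤ 4096) : Ac p d e Q q ω (1 : N) (tb (p ^ d + e) fun x => x) where
  v x hx := by
    rw [get_tb (fun _ hy => hy.trans_le hD) (by omega)]
    exact ⟨hx, one_smul _ _⟩
  w k hk := ⟨k, hk, get_tb (f := fun x => x) (fun _ hy => hy.trans_le hD) (by omega), one_smul _ _⟩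

theorem Ac.mul {y y' : N} {t s : ℕ} (h1 : Ac p d e Q q ω y t) (h2 : Ac p d e Q q ω y' s) :
    Ac p d e Q q ω (y * y') (cmp (p ^ d + e) t s) where
  v x hx := by
    rw [get_cmp _ _ (by omega), QuotientGroup.mk_mul, mul_smul, (h2.v x hx).2]
    exact h1.v _ (h2.v x hx).1
  w k hk := by
    obtain ⟨k', h3, h4, h5⟩ := h2.w k hk
    obtain ⟨k'', h6, h7, h8⟩ := h1.w k' h3
    exact ⟨k'', h6, by rw [get_cmp _ _ (by omega), h4, h7], by rw [coe_mul, mul_smul, h5, h8]⟩

theorem lt_cases {P e : ℕ} {r : ℕ → Prop} (h1 : ∀ x < P, r x) (h2 : ∀ k < e, r (P + k)) : ∀ x < P + e, r x := fun x hx => by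
  rcases lt_or_ge x P with h | h
  · exact h1 x h
  · obtain ⟨k, rfl⟩ := Nat.exists_eq_add_of_le h
    exact h2 k (by omega)

theorem Ac.eq [Finite X] [Fact p.Prime] (h : Loc p d Q q) (hω : ∀ k < e, ∀ k' < e, ω k = ω k' → k = k') {y y' : N} {t s : ℕ}
    (h1 : Ac p d e Q q ω y t) (h2 : Ac p d e Q q ω y' s) : (∀ x < p ^ d + e, get t x = get s x) ↔
      (∀ x < p ^ d, (y : N ⧸ Q.subgroupOf N) • cd p d Q q x = (y' : N ⧸ Q.subgroupOf N) • cd p d Q q x) ∧
        ∀ k < e, (y : X) • ω k = (y' : X) • ω k := by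
  refine ⟨fun h3 => ⟨fun x hx => by rw [(h1.v x hx).2, (h2.v x hx).2, h3 x (by omega)], fun k hk => ?_⟩,
    fun h3 => lt_cases (fun x hx => h.inj _ (h1.v x hx).1 _ (h2.v x hx).1 ?_) fun k hk => ?_⟩
  · obtain ⟨k', -, h4, h5⟩ := h1.w k hk
    obtain ⟨k'', -, h7, h8⟩ := h2.w k hk
    rw [h5, h8, Nat.add_left_cancel (h4.symm.trans ((h3 _ (by omega)).trans h7))]
  · rw [← (h1.v x hx).2, ← (h2.v x hx).2, h3.1 x hx]
  · obtain ⟨k', h4, h5, h6⟩ := h1.w k hk
    obtain ⟨k'', h7, h8, h9⟩ := h2.w k hk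
    rw [h5, h8, hω _ h4 _ h7 (h6.symm.trans ((h3.2 k hk).trans h9))]

/-- the elements of `Q` in the group which the generators generate fix the points -/
theorem fix_of_cls [Finite X] [hp : Fact p.Prime] (h : Loc p d Q q) (hω : ∀ k < e, ∀ k' < e, ω k = ω k' → k = k')
    (hD : p ^ d + e ≤ 4096) {K : Subgroup N} {S : Set N} (hS : _root_.Subgroup.closure S = K) {ts : List ℕ}
    (h1 : ∀ y ∈ S, ∃ t ∈ ts, Ac p d e Q q ω y t) (h2 : ∀ t ∈ ts, ∃ y ∈ K, Ac p d e Q q ω y t) {prog : List ℕ} {n : ℕ}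
    (hn : ¬ p ∣ n) (hc : (lst (p ^ d + e) (ts.zip ts) prog fun L => Nat.beq L.length n && ndp L && cls (p ^ d + e) ts L) = true)
    {y : N} (hy : y ∈ K) (hQ : (y : X) ∈ Q) : ∀ k < e, (y : X) • ω k = ω k := by
  classical
  rw [lst, frc_eq] at hc
  have h0 : ∀ c ∈ [(tb (p ^ d + e) fun x => x, tb (p ^ d + e) fun x => x)],
      tb (p ^ d + e) (get c.1) = c.1 ∧ ∃ y ∈ K, Ac p d e Q q ω y c.1 := by
    rw [List.forall_mem_singleton]
    exact ⟨tb_get fun x hx => hx.trans_le hD, 1, one_mem _, Ac.one hD⟩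
  obtain ⟨L, h3, h4, h5⟩ := run_spec (G := fun c => tb (p ^ d + e) (get c.1) = c.1 ∧ ∃ y ∈ K, Ac p d e Q q ω y c.1)
    (G' := fun c => ∃ y ∈ K, Ac p d e Q q ω y c.1) (fun c hc => h2 _ (List.of_mem_zip hc).1) (fun _ h => h.2)
    (fun _ _ ⟨_, a, h1, h2⟩ ⟨a', h3, h4⟩ => ⟨tb_get fun _ _ => get_lt _ _, a * a', mul_mem h1 h3, h2.mul h4⟩) prog _ _ h0 h0 hc
  simp only [Bool.and_eq_true, Nat.beq_eq, cls, List.all_eq_true, frc_eq, memB_iff] at h5
  obtain ⟨⟨h5, h6⟩, h7⟩ := h5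
  have h8 : ∀ y ∈ K, ∃ t ∈ L.map Prod.fst, Ac p d e Q q ω y t := fun y hy => by
    rw [← hS, ← mem_toSubmonoid, Subgroup.closure_toSubmonoid_of_finite] at hy
    induction hy using Submonoid.closure_induction_right with
    | one => exact ⟨_, List.mem_map.2 ⟨_, h3 _ List.mem_cons_self, rfl⟩, Ac.one hD⟩
    | mul_right x _ y hy ih =>
      obtain ⟨_, h9, h10⟩ := ih
      obtain ⟨c, hc, rfl⟩ := List.mem_map.1 h9
      obtain ⟨t, ht, h11⟩ := h1 y hy
      exact ⟨_, h7 c hc t ht, h10.mul h11⟩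
  choose T h9 h10 using fun y : K => h8 y y.2
  have h11 : ∀ t ∈ L.map Prod.fst, tb (p ^ d + e) (get t) = t := List.forall_mem_map.2 fun c hc => (h4 c hc).1
  let C : Subgroup K :=
    { carrier := {y | (∀ x < p ^ d, ((y : N) : N ⧸ Q.subgroupOf N) • cd p d Q q x = cd p d Q q x) ∧
        ∀ k < e, ((y : N) : X) • ω k = ω k}
      one_mem' := ⟨fun _ _ => one_smul _ _, fun _ _ => one_smul _ _⟩
      mul_mem' := fun ha hb => ⟨fun x hx => by rw [coe_mul, QuotientGroup.mk_mul, mul_smul, hb.1 x hx, ha.1 x hx],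
        fun k hk => by rw [coe_mul, coe_mul, mul_smul, hb.2 k hk, ha.2 k hk]⟩
      inv_mem' := fun ha => ⟨fun x hx => by rw [coe_inv, QuotientGroup.mk_inv, inv_smul_eq_iff, ha.1 x hx],
        fun k hk => by rw [coe_inv, coe_inv, inv_smul_eq_iff, ha.2 k hk]⟩ }
  have : C.Normal := ⟨fun a ha g => ⟨fun x hx => by
      have h12 := (h10 g⁻¹).v x hx
      rw [coe_mul, coe_mul, QuotientGroup.mk_mul, QuotientGroup.mk_mul, mul_smul, mul_smul, h12.2, ha.1 _ h12.1, ← h12.2,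
        coe_inv, QuotientGroup.mk_inv, smul_inv_smul], fun k hk => by
      obtain ⟨k', h12, -, h13⟩ := (h10 g⁻¹).w k hk
      rw [coe_mul, coe_mul, coe_mul, coe_mul, mul_smul, mul_smul, h13, ha.2 _ h12, ← h13, coe_inv, coe_inv, smul_inv_smul]⟩⟩
  have h12 : ∀ a b : K, T a = T b ↔ a⁻¹ * b ∈ C := fun a b => by
    have h13 : T a = T b ↔ ∀ x < p ^ d + e, get (T a) x = get (T b) x :=
      ⟨fun e _ _ => by rw [e], fun e => by rw [← h11 _ (h9 a), ← h11 _ (h9 b)]; exact tb_congr e⟩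
    rw [h13, (h10 a).eq h hω (h10 b)]
    refine and_congr (forall₂_congr fun x _ => ?_) (forall₂_congr fun k _ => ?_)
    · rw [coe_mul, coe_inv, QuotientGroup.mk_mul, QuotientGroup.mk_inv, mul_smul, inv_smul_eq_iff, eq_comm]
    · rw [coe_mul, coe_inv, coe_mul, coe_inv, mul_smul, inv_smul_eq_iff, eq_comm]
  have h13 : C.index = n := by
    rw [← h5, ← List.length_map Prod.fst, ← List.toFinset_card_of_nodup (ndp_spec h6), ← Nat.card_eq_finsetCard]
    refine Nat.card_eq_of_bijective (fun c => ⟨T c.out, List.mem_toFinset.2 (h9 _)⟩) ⟨fun a b e => ?_, fun t => ?_⟩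
    · rw [← a.out_eq', ← b.out_eq']
      exact QuotientGroup.eq.2 ((h12 _ _).1 (congrArg Subtype.val e))
    · have h14 := List.mem_toFinset.1 t.2
      obtain ⟨c, hc, h15⟩ := List.mem_map.1 h14
      obtain ⟨-, z, hz, h16⟩ := h4 c hc
      refine ⟨(⟨z, hz⟩ : K), Subtype.ext (((h12 _ ⟨z, hz⟩).2 (QuotientGroup.eq.1 (QuotientGroup.out_eq' _))).trans ?_)⟩
      rw [← h11 _ (h9 _), ← h11 _ h14, ← h15]
      exact tb_congr (((h10 _).eq h hω h16).2 ⟨fun _ _ => rfl, fun _ _ => rfl⟩)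
  obtain ⟨k, hk⟩ := h.pg ⟨_, hQ⟩
  have h14 : orderOf (⟨y, hy⟩ : K) ∣ p ^ k := orderOf_dvd_of_pow_eq_one (Subtype.ext (Subtype.ext (congrArg Subtype.val hk :)))
  obtain ⟨m, hm⟩ := exists_pow_eq_self_of_coprime (x := (⟨y, hy⟩ : K)) (n := n)
    (((hp.out.coprime_iff_not_dvd.2 hn).symm.pow_right k).coprime_dvd_right h14)
  exact (hm ▸ pow_mem (h13 ▸ C.pow_index_mem (⟨y, hy⟩ : K)) m : (⟨y, hy⟩ : K) ∈ C).2

theorem rpE [Finite X] [Fact p.Prime] (h : Loc p d Q q) (hω : ∀ k < e, ∀ k' < e, ω k = ω k' → k = k')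
    (hD : p ^ d + e ≤ 4096) {K : Subgroup N} (hK : ∀ y ∈ K, (y : X) ∈ Q → ∀ k < e, (y : X) • ω k = ω k) :
    Rp (fun (a : N ⧸ Q.subgroupOf N) t => ∃ y ∈ K, (y : N ⧸ Q.subgroupOf N) = a ∧ Ac p d e Q q ω y t) (p ^ d + e) (p ^ d)
      (cd p d Q q) (((List.range d).map fun j => p ^ j) ++ (List.range e).map fun k => p ^ d + k) where
  hD := hD
  one := ⟨1, one_mem _, rfl, Ac.one hD⟩
  mul := by
    rintro _ t _ s ⟨y, h1, rfl, h2⟩ ⟨y', h3, rfl, h4⟩
    exact ⟨y * y', mul_mem h1 h3, rfl, h2.mul h4⟩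
  fn := by
    rintro _ t s ⟨y, h1, rfl, h2⟩ ⟨y', h3, h4, h5⟩
    refine (h2.eq h hω h5).2 ⟨fun _ _ => by rw [h4], fun k hk => ?_⟩
    have h6 := hK _ (mul_mem (inv_mem h3) h1) (QuotientGroup.eq.1 h4 : y'⁻¹ * y ∈ Q.subgroupOf N) k hk
    rwa [coe_mul, coe_inv, mul_smul, inv_smul_eq_iff] at h6
  bas := by
    rintro _ t _ s ⟨y, -, rfl, h2⟩ ⟨y', -, rfl, h4⟩ h5
    refine lt_cases (fun x hx => h.inj _ (h2.v x hx).1 _ (h4.v x hx).1 ?_) fun k hk =>
      h5 _ (List.mem_append_right _ (List.mem_map.2 ⟨k, List.mem_range.2 hk, rfl⟩))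
    rw [← (h2.v x hx).2, ← (h4.v x hx).2]
    refine h.smul_eq (fun j hj => ?_) x
    have h6 : p ^ j < p ^ d := Nat.pow_lt_pow_right (Fact.out : p.Prime).one_lt hj
    rw [(h2.v _ h6).2, (h4.v _ h6).2, h5 _ (List.mem_append_left _ (List.mem_map.2 ⟨j, List.mem_range.2 hj, rfl⟩))]
  act := by
    rintro _ t ⟨y, -, rfl, h2⟩
    exact h2.v
  inj := h.inj
  surj := h.surj
  lt y hy := by
    rcases List.mem_append.1 hy with h1 | h1
    · obtain ⟨j, hj, rfl⟩ := List.mem_map.1 h1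
      exact (Nat.pow_lt_pow_right (Fact.out : p.Prime).one_lt (List.mem_range.1 hj)).trans_le (Nat.le_add_right _ _)
    · obtain ⟨k, hk, rfl⟩ := List.mem_map.1 h1
      exact Nat.add_lt_add_left (List.mem_range.1 hk) _

end

/-- **the number of the fixed characters**, and the order of `N` -/
theorem fN_card_of_chkE [Finite X] [hp : Fact p.Prime] (h : Loc p d Q q) (hQN : Q ≤ N) (hN : N ≤ normalizer (Q : Set X))
    {n : ℕ} (hn : Nat.card N ≤ Nat.card Q * n) {r : ℕ} {g : ℕ → X} (hg : ∀ i < r, g i ∈ N) {Ms : List (List (List ℕ))}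
    (hM : ∀ i < r, Mt d Q q (fun x => g i * x * (g i)⁻¹) (Ms.getD i [])) {Ω : Type} [MulAction X Ω] {e : ℕ} {ω : ℕ → Ω}
    (hω : ∀ k < e, ∀ k' < e, ω k = ω k' → k = k') {σs : List (List ℕ)}
    (hσ : ∀ i < r, ∀ k < e, g i • ω k = ω ((σs.getD i []).getD k 0)) {α : MulAut X} (hα : ∀ x, α x ∈ Q ↔ x ∈ Q)
    (hαN : ∀ x, α x ∈ N ↔ x ∈ N) {M : List (List ℕ)} (hαM : Mt d Q q α M) {ws : List (List ℕ)}
    (hw : ∀ i < r, (ev g (ws.getD i []))⁻¹ * α (g i) ∈ Q) {prog : List ℕ} {c : ℕ}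
    (hc : chkE p d e r Ms σs ws M prog n c = true) : fN p N α = c ∧ Nat.card N = Nat.card Q * n := by
  have := normal_subgroupOf_of_le_normalizer hN
  obtain ⟨_, ha⟩ := exists_act hN
  simp only [chkE, frc_eq, mapK_eq, Bool.and_eq_true, Nat.ble_eq, bne_iff_ne, List.all_eq_true, List.mem_range,
    Nat.blt_eq] at hc
  obtain ⟨⟨⟨h1, h2⟩, h3⟩, h4, h5⟩ := hc
  have h6 : p ^ d ≤ 4096 := (Nat.le_add_right _ _).trans h1
  have h7 : ¬ p ∣ n := fun e => h2 (Nat.mod_eq_zero_of_dvd e)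
  have h8 : ∀ i (hi : i < r), Ac p d e Q q ω (⟨g i, hg i hi⟩ : N) (tabE p d e (Ms.getD i []) (σs.getD i [])) := fun i hi => by
    have e1 : ∀ x < p ^ d, Nat.blt x (p ^ d) = true := fun x hx => Nat.blt_eq.mpr hx
    have e2 : ∀ k, Nat.blt (p ^ d + k) (p ^ d) = false := fun k => Bool.eq_false_iff.2 fun e => by
      have := Nat.blt_eq.mp e
      omega
    have e3 : ∀ x < p ^ d + e, get (tabE p d e (Ms.getD i []) (σs.getD i [])) x = _ := fun x hx =>
      get_tb (lt_cases (fun y hy => by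
        rw [e1 y hy]
        exact (enc_lt hp.out.pos _ _).trans_le h6) fun k hk => by
        rw [e2]
        change p ^ d + (σs.getD i []).getD (p ^ d + k - p ^ d) 0 < _
        have := (h3 i hi).1 k hk
        rw [Nat.add_sub_cancel_left]
        omega) hx
    refine ⟨fun x hx => ?_, fun k hk => ⟨_, (h3 i hi).1 k hk, ?_, hσ i hi k hk⟩⟩
    · rw [e3 x (by omega), e1 x hx]
      exact ⟨enc_lt hp.out.pos _ _, h.cd_img (DistribSMul.toAddMonoidHom _ ((⟨g i, hg i hi⟩ : N) : N ⧸ Q.subgroupOf N))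
        (f := fun x => g i * x * (g i)⁻¹) (fun j hj => ha ⟨g i, hg i hi⟩ _ (h.mem j hj)) (hM i hi) x⟩
    · rw [e3 _ (by omega), e2]
      change p ^ d + (σs.getD i []).getD (p ^ d + k - p ^ d) 0 = _
      rw [Nat.add_sub_cancel_left]
  let S : Set N := {y | ∃ i, ∃ hi : i < r, ⟨g i, hg i hi⟩ = y}
  have h9 : ∀ i (hi : i < r), (⟨g i, hg i hi⟩ : N) ∈ _root_.Subgroup.closure S := fun i hi => subset_closure ⟨i, hi, rfl⟩
  have h10 := fun y => fix_of_cls h hω h1 (S := S) rfl (y := y) (by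
    rintro _ ⟨i, hi, rfl⟩
    exact ⟨_, List.mem_map.2 ⟨i, List.mem_range.2 hi, rfl⟩, h8 i hi⟩)
    (List.forall_mem_map.2 fun i hi => ⟨_, h9 i (List.mem_range.1 hi), h8 i (List.mem_range.1 hi)⟩) h7 h4
  have h11 : ∀ w : List ℕ, (∀ a ∈ w, a < r) → ∃ y ∈ closure S, (y : X) = ev g w ∧ Ac p d e Q q ω y
      (wd (p ^ d + e) ((List.range r).map fun i => tabE p d e (Ms.getD i []) (σs.getD i [])) w) := fun w hw => by
    induction w with
    | nil => exact ⟨1, one_mem _, rfl, Ac.one h1⟩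
    | cons a w ih =>
      obtain ⟨y, e1, e2, e3⟩ := ih fun b hb => hw b (List.mem_cons_of_mem _ hb)
      have e4 := hw a List.mem_cons_self
      refine ⟨⟨g a, hg a e4⟩ * y, mul_mem (h9 a e4) e1, by rw [coe_mul, e2, ev_cons], ?_⟩
      have e5 := (h8 a e4).mul e3
      change Ac p d e Q q ω _ (frc _ fun s => cmp (p ^ d + e) (List.getD _ a 0) s)
      rw [frc_eq, List.getD_eq_getElem _ _ (by simpa using e4), List.getElem_map, List.getElem_range]
      exact e5
  obtain ⟨h12, h13⟩ := card_of_chk (rpE h hω h1 h10) (map_one (qb hα hαN)) (map_mul _)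
    (h.tab_spec h6 (act hα) (fun j hj => act_ab hα (h.mem j hj)) hαM) (by
      rw [List.zip_map']
      refine List.forall_mem_map.2 fun i hi => ?_
      have e1 := List.mem_range.1 hi
      obtain ⟨y, e2, e3, e4⟩ := h11 _ (h3 i e1).2
      refine ⟨_, ⟨_, h9 i e1, rfl, h8 i e1⟩, y, e2, QuotientGroup.eq.2 ?_, e4⟩
      change (y : X)⁻¹ * α (g i) ∈ Q
      rw [e3]
      exact hw i e1) (card_quot_le hQN hn) h5
  have h14 := core h.pg hQN ha hα hαN (h12 ▸ h7)
  rw [h13, h12] at h14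
  refine ⟨Nat.eq_of_mul_eq_mul_right (h12 ▸ Nat.card_pos) h14, ?_⟩
  rw [← (Q.subgroupOf N).card_mul_index, Nat.card_congr (subgroupOfEquivOfLe hQN).toEquiv, ← h12]
  rfl

theorem fN_of_chkE [Finite X] [Fact p.Prime] (h : Loc p d Q q) (hQN : Q ≤ N) (hN : N ≤ normalizer (Q : Set X))
    {n : ℕ} (hn : Nat.card N ≤ Nat.card Q * n) {r : ℕ} {g : ℕ → X} (hg : ∀ i < r, g i ∈ N) {Ms : List (List (List ℕ))}
    (hM : ∀ i < r, Mt d Q q (fun x => g i * x * (g i)⁻¹) (Ms.getD i [])) {Ω : Type} [MulAction X Ω] {e : ℕ} {ω : ℕ → Ω}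
    (hω : ∀ k < e, ∀ k' < e, ω k = ω k' → k = k') {σs : List (List ℕ)}
    (hσ : ∀ i < r, ∀ k < e, g i • ω k = ω ((σs.getD i []).getD k 0)) {α : MulAut X} (hα : ∀ x, α x ∈ Q ↔ x ∈ Q)
    (hαN : ∀ x, α x ∈ N ↔ x ∈ N) {M : List (List ℕ)} (hαM : Mt d Q q α M) {ws : List (List ℕ)}
    (hw : ∀ i < r, (ev g (ws.getD i []))⁻¹ * α (g i) ∈ Q) {prog : List ℕ} {c : ℕ}
    (hc : chkE p d e r Ms σs ws M prog n c = true) : fN p N α = c :=
  (fN_card_of_chkE h hQN hN hn hg hM hω hσ hα hαN hαM hw hc).1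

/-- the words for the trivial automorphism -/
def idW (r : ℕ) : List (List ℕ) := (List.range r).map fun i => [i]

/-- **the number of the characters of `p'`-degree**, and the order of `N` -/
theorem k0_of_chkE [Finite X] [Fact p.Prime] (h : Loc p d Q q) (hQN : Q ≤ N) (hN : N ≤ normalizer (Q : Set X))
    {n : ℕ} (hn : Nat.card N ≤ Nat.card Q * n) {r : ℕ} {g : ℕ → X} (hg : ∀ i < r, g i ∈ N) {Ms : List (List (List ℕ))}
    (hM : ∀ i < r, Mt d Q q (fun x => g i * x * (g i)⁻¹) (Ms.getD i [])) {Ω : Type} [MulAction X Ω] {e : ℕ} {ω : ℕ → Ω}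
    (hω : ∀ k < e, ∀ k' < e, ω k = ω k' → k = k') {σs : List (List ℕ)}
    (hσ : ∀ i < r, ∀ k < e, g i • ω k = ω ((σs.getD i []).getD k 0)) {prog : List ℕ} {c : ℕ}
    (hc : chkE p d e r Ms σs (idW r) (idM d) prog n c = true) : k0 p N = c ∧ Nat.card N = Nat.card Q * n := by
  rw [← fN_one]
  refine fN_card_of_chkE h hQN hN hn hg hM hω hσ (fun _ => Iff.rfl) (fun _ => Iff.rfl) h.mt_one (fun i hi => ?_) hc
  rw [idW, List.getD_eq_getElem _ _ (by simpa using hi), List.getElem_map, List.getElem_range, ev_cons, ev_nil, mul_one,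
    MulAut.one_apply, inv_mul_cancel]
  exact one_mem _

end Cfsg.Agent.MO.L
end

-- part: MO/S/Fi23/Loc
section
/-!
# MO, the row `Fi23` : Sylow subgroups and their normalisers, `p = 3, 5` (helper61)

Model on the 31671 transpositions (`TAB/F23C/Mdl`); data by `tools/P3/h61`.
-/

set_option autoImplicit false
set_option maxRecDepth 100000
set_option Elab.async false

namespace Cfsg.Agent.MO.S.Fi23

open Subgroup Cfsg.Agent.MO.S.Pc Cfsg.Agent.MO.L Cfsg.Agent.MO.T Cfsg.Agent.TAB.PE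
open Cfsg.Agent.MK.S.Pc (ev ev_nil ev_cons V)
open Cfsg.Agent.TAB.F23C (cx el ok rig fin23 card23 good_list inF23)
open Cfsg.Agent.Fischer.Fi23Hom (rho)
open Cfsg.Agent.Lib.PermNet (seq seq_eq ptWord ptWord_eq)
open Cfsg.Spor (Fi23)

/-- the letters -/
noncomputable def y (L : List ℕ) (a : ℕ) : Fi23 := el (L.getD a 0)

/-- the action of a word on sets of points -/
noncomputable def act (L w : List ℕ) : ℕ → ℕ :=
  List.rec (fun P => P) (fun a _ ih P => seq (apw (cx.nw (L.getD a 0)) P) ih) w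

theorem act_spec (L : List ℕ) : ∀ w, Acts rho (act L w) (ev (y L) w)
  | [] => Acts.one
  | a :: w => fun P p => by
    rw [show act L (a :: w) P = act L w (apw (cx.nw (L.getD a 0)) P) from seq_eq _ _, ev_cons]
    exact (ok.acts _).mul (act_spec L w) P p

/-- the test of the equality of two words -/
noncomputable def eqv (L v w : List ℕ) : Bool := Nat.beq (act L v cx.B) (act L w cx.B)

theorem he (L v w : List ℕ) (h : eqv L v w = true) : ev (y L) v = ev (y L) w :=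
  rig.eq (act_spec L v) (act_spec L w) (Nat.eq_of_beq_eq_true h)

/-- the action on the points -/
@[reducible] noncomputable def ma : MulAction Fi23 ℕ := MulAction.compHom ℕ rho

/-- the action of a letter on the points -/
noncomputable def f (L : List ℕ) (a : ℕ) : ℕ → ℕ := ptWord (cx.nw (L.getD a 0))

theorem f_spec (L : List ℕ) (a x : ℕ) : rho (y L a) x = f L a x :=
  ((ptWord_eq (good_list _).1 x).trans (congrArg (· x) (ok.wp _))).symm

theorem card_ge' {L : List ℕ} {n N : ℕ} {lv : List (ℕ × List (List ℕ))}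
    (h : (chn (imw (f L)) (fun _ => true) n lv [] && Nat.ble N (lv.map fun v => v.2.length).prod) = true) :
    N ≤ Nat.card (V (y L) n 0) :=
  have := fin23
  let _ := ma
  card_ge (cd := id) Function.injective_id (fun c _ => ⟨c, rfl⟩) (fun u _ => imw_spec (cd := id) (g := y L) (f_spec L) u) h

section FastNet
open Cfsg.Agent.Lib.PermNet Cfsg.Agent.Lib.PermNetPt
open Cfsg.Agent.TAB.F23C (pick nl good_pick good_all dec)

/-- `c 0`, …, `c (n - 1)` side by side in fields of `W` bits -/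
private noncomputable def fnSt (W : ℕ) (c : ℕ → ℕ) (n : ℕ) : ℕ :=
  Nat.rec (motive := fun _ => ℕ) 0 (fun b ih => Nat.lor ih (Nat.shiftLeft (c b) (Nat.mul W b))) n

private theorem fnSt_lt {W : ℕ} {c : ℕ → ℕ} {e : ℕ} (_ : e ≤ W) (hc : ∀ b, c b < 2 ^ e) (n i : ℕ)
    (h : (fnSt W c n).testBit i = true) : i + W < W * n + e := by
  induction n with
  | zero => exact absurd h (by show ¬ (Nat.testBit 0 i = true); simp)
  | succ n ih =>
    have h' : ((fnSt W c n) ||| (c n <<< (W * n))).testBit i = true := h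
    rw [Nat.testBit_or, Bool.or_eq_true, Nat.testBit_shiftLeft, Bool.and_eq_true, decide_eq_true_eq] at h'
    rw [Nat.mul_succ]
    rcases h' with h' | ⟨h1, h2⟩
    · have := ih h'; omega
    · have : i - W * n < e := by
        by_contra hh
        rw [Nat.testBit_lt_two_pow (lt_of_lt_of_le (hc n) (Nat.pow_le_pow_right (by decide) (by omega)))] at h2
        exact absurd h2 (by simp)
      omega

private theorem fnSt_gather {W m : ℕ} (hW : 2 ^ W ≡ 2 [MOD m]) {c : ℕ → ℕ} (hc : ∀ b, c b < 2 ^ W) {r : ℕ} (hr : r < W)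
    (v n : ℕ) (h : ∀ b < n, (c b).testBit r = v.testBit b) :
    ((fnSt W c n >>> r) &&& fnSt W (fun _ => 1) n) ≡ v % 2 ^ n [MOD m] := by
  induction n with
  | zero => show (0 >>> r &&& 0) ≡ _ [MOD m]; simp [Nat.mod_one]; rfl
  | succ n ih =>
    have hS := fnSt_lt le_rfl hc n
    have hR := fnSt_lt (W := W) (c := fun _ => 1) (e := 1) (by omega) (fun _ => by decide) n
    have hG : (fnSt W c n >>> r) &&& fnSt W (fun _ => 1) n < 2 ^ (W * n) := by
      apply Nat.lt_pow_two_of_testBit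
      intro i hi
      rw [Nat.testBit_and]
      cases hb : (fnSt W (fun _ => 1) n).testBit i
      · simp
      · have := hR i hb; omega
    have e : (fnSt W c (n + 1) >>> r) &&& fnSt W (fun _ => 1) (n + 1) =
        2 ^ (W * n) * (v.testBit n).toNat + ((fnSt W c n >>> r) &&& fnSt W (fun _ => 1) n) := by
      rw [Nat.two_pow_add_eq_or_of_lt hG]
      show ((fnSt W c n ||| (c n <<< (W * n))) >>> r) &&& (fnSt W (fun _ => 1) n ||| (1 <<< (W * n))) = _
      apply Nat.eq_of_testBit_eq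
      intro i
      rw [Nat.testBit_and, Nat.testBit_shiftRight, Nat.testBit_or, Nat.testBit_or, Nat.testBit_or, Nat.testBit_and,
        Nat.testBit_shiftRight, Nat.testBit_shiftLeft, Nat.one_shiftLeft, Nat.testBit_two_pow, Nat.testBit_two_pow_mul,
        Nat.testBit_bool_toNat]
      by_cases hi : W * n = i
      · have h1 : (fnSt W c n).testBit (r + i) = false := by
          cases hb : (fnSt W c n).testBit (r + i)
          · rfl
          · have := hS _ hb; omega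
        rw [h1, show r + i - W * n = r by omega, h n (Nat.lt_succ_self n)]
        simp [← hi]
      · cases hb : (fnSt W (fun _ => 1) n).testBit i
        · have : ¬ (i ≥ W * n ∧ i - W * n = 0) := by omega
          simp only [hi, _root_.ge_iff_le, _root_.decide_false, _root_.Bool.or_self, _root_.Bool.and_false, _root_.Bool.or_false, _root_.Bool.false_eq, _root_.Bool.and_eq_false_imp, _root_.decide_eq_true_eq]; omega
        · have := hR i hb
          have h1 : ¬ (r + i ≥ W * n) := by omega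
          have h2 : ¬ (i ≥ W * n) := by omega
          simp only [h1, h2, _root_.ge_iff_le, _root_.decide_false, _root_.Bool.false_and, _root_.Bool.or_false, _root_.Bool.true_or, _root_.Bool.and_true, _root_.Bool.false_or]
    rw [e, Nat.mod_pow_succ, Nat.toNat_testBit, add_comm, pow_mul]
    exact (ih fun b hb => h b (by omega)).add ((hW.pow n).mul_right _)

private noncomputable def fnTab (L : Net) (j : ℕ) : ℕ :=
  fnSt (nat_lit 1024) (fun b => Nat.land (Nat.shiftRight (L.app (plane (nat_lit 15) b)) (Nat.mul (nat_lit 1024) j))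
    (Nat.sub (Nat.shiftLeft (nat_lit 1) (nat_lit 1024)) (nat_lit 1))) (nat_lit 15)

private noncomputable def fnLook (L : Net) (p : ℕ) : ℕ :=
  force (Nat.shiftRight p (nat_lit 10)) fun j =>
    Nat.mod (Nat.land (Nat.shiftRight (fnTab L j) (Nat.land p (nat_lit 1023)))
      (fnSt (nat_lit 1024) (fun _ => 1) (nat_lit 15))) (nat_lit 2147483647)

private theorem fnLook_eq {L : Net} (h : L.ok (2 ^ 15) = true) {p : ℕ} (hp : p < 2 ^ 15) : fnLook L p = L.perm p := by
  have hv := perm_lt h hp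
  have hr : p &&& (2 ^ 10 - 1) = p % 2 ^ 10 := Nat.and_two_pow_sub_one_eq_mod p 10
  have hj : p >>> 10 = p / 2 ^ 10 := Nat.shiftRight_eq_div_pow p 10
  have key : ∀ W k : ℕ, W = 1024 → k = 15 → 2 ^ W ≡ 2 [MOD 2147483647] →
      ((fnSt W (fun b => (L.app (plane k b) >>> (W * (p >>> 10))) &&& (1 <<< W - 1)) k >>> (p &&& (2 ^ 10 - 1))) &&&
        fnSt W (fun _ => 1) k) % 2147483647 = L.perm p := by
    intro W k e e' hW
    rw [← e'] at hv
    have h1 := fnSt_gather hW (c := fun b => (L.app (plane k b) >>> (W * (p >>> 10))) &&& (1 <<< W - 1))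
      (fun b => by rw [Nat.one_shiftLeft, Nat.and_two_pow_sub_one_eq_mod]; exact Nat.mod_lt _ (Nat.two_pow_pos W))
      (r := p &&& (2 ^ 10 - 1)) (by omega) (L.perm p) k (fun b hb => by
        rw [Nat.one_shiftLeft, Nat.testBit_and, Nat.testBit_two_pow_sub_one, Nat.testBit_shiftRight,
          show W * (p >>> 10) + (p &&& (2 ^ 10 - 1)) = p by rw [e]; omega, decide_eq_true (by omega), Bool.and_true,
          testBit_app h, testBit_plane k b _ hv hb])
    rw [Nat.mod_eq_of_lt hv] at h1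
    rw [e'] at hv
    rw [show _ % 2147483647 = _ from h1, Nat.mod_eq_of_lt (by omega)]
  delta fnLook
  rw [force_eq]
  exact key (nat_lit 1024) (nat_lit 15) rfl rfl (by decide +kernel)

private noncomputable def fnEv (l : List ℕ) : ℕ → ℕ :=
  List.rec (motive := fun _ => ℕ → ℕ) (fun p => p)
    (fun d _ ih p => force d fun e => force (ih p) (fnLook (pick nl e))) l

private theorem fnEv_eq (l : List ℕ) {p : ℕ} (hp : p < 2 ^ 15) : fnEv l p = wperm (l.map (pick nl)) p := by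
  induction l with
  | nil => rfl
  | cons d l ih =>
    show (force d fun e => force (fnEv l p) (fnLook (pick nl e))) = _
    rw [force_eq, force_eq, ih, fnLook_eq (good_pick good_all d).1 (wperm_lt (good_list l).1 hp), List.map_cons,
      wperm_cons, Equiv.Perm.mul_apply]

private noncomputable def f2 (L : List ℕ) (a p : ℕ) : ℕ :=
  Bool.rec (fnEv (dec 5000 (L.getD a 0)) p) p (Nat.ble (nat_lit 32768) p)

private theorem f_eq (L : List ℕ) : f L = f2 L := by
  funext a p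
  refine (ptWord_eq (good_list _).1 p).trans ?_
  delta f2
  cases hb : Nat.ble (nat_lit 32768) p
  · exact (fnEv_eq _ (Nat.lt_of_not_le fun h => Bool.noConfusion (hb.symm.trans (Nat.ble_eq_true_of_le h)))).symm
  · exact wperm_eq_of_le (good_list _).1 (Nat.le_of_ble_eq_true hb)

end FastNet

/-! ### `p = 3` -/

/-- the letters -/
def L3 : List ℕ :=
  [0x2efa1e7b998f11559170, 0x83576fcd6abb9091585768, 0xbb56efc8dfadb450b, 0xc439e0f485ce3118f7b67deb4,
    0x1c5a441df926ad3576d38d, 0x547d1ef718ce4944634969d3, 0x1e0a73cbc63cc3df785f4c, 0x23779e0e4f2a7179a3ab2,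
    0x11ab69e5c9e3ca6da71a9, 0x3bb0df86e5e92b35a9ab4b8, 0x3a49e1c53a, 0x106395e0e73125adb6cb33, 0x827bc2cf3226d290,
    0x447e27b38aee6fa5168, 0xd615b4f499ad7966d21c, 0x825dec5b372316da1e]

/-- the relations -/
def cert3 : Cert where
  pw := [[10, 10, 11, 11, 12], [10, 10], [12, 12]]
  cm := [[[], [6, 7, 7, 9, 9], [4], [6], [8, 8, 11], [7], [9, 9, 11, 11], [10, 10, 11, 11, 12, 12], [11, 11, 12], [],
    [12, 12], [12]], [[], [], [3], [5], [6, 8, 8, 9, 9, 11, 11], [11], [7, 8, 8, 9, 9], [9, 10, 10, 12], [9], [10]],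
    [[], [], [], [9, 9, 11, 11], [11, 11], [10, 10, 11, 11], [8, 8, 9, 10, 12, 12], [8], [12], [11, 11], [11]], [[],
    [], [], [], [8, 8, 9, 10, 12, 12], [], [8, 8, 9, 10], [9, 11], [11, 11], [11, 11]], [[], [], [], [], [], [8, 8],
    [], [12, 12], [], [12, 12], [12]], [[], [], [], [], [], [], [9, 11, 12], [10, 11], [11]], [[], [], [], [], [], [],
    [], [12, 12], [12, 12], [12, 12]], [[], [], [], [], [], [], [], [], [12]]]
  dv := [([], [], []), ([], [], []), ([], [], []), ([1], [2], []), ([0], [2], []), ([1], [3], []), ([0], [3], []),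
    ([0], [5], []), ([2], [7], []), ([1], [8], []), ([1], [9], []), ([2], [10], []), ([0], [11], [])]

/-- the chain of stabilizers -/
def lv3 : List (ℕ × List (List ℕ)) :=
  [(4193, [[3, 0, 3, 1], [3, 0, 1], [2, 1], [3, 0, 1, 2], [0, 3], [3, 1, 1], [1, 2], [1, 0, 3, 1], [0, 0, 2], [0, 1,
    2], [6, 1, 3, 1], [3], [1, 1], [0, 4], [4, 0, 1], [0, 1, 1], [1, 0, 1], [0, 4, 4], [0, 0, 1], [], [2, 1, 0, 1],
    [0, 2, 3], [2, 1, 0, 0, 1], [9, 2, 0, 1, 1], [5, 2, 2], [0, 2, 2], [2, 1, 1, 4], [2, 6, 1, 1], [7, 0, 2, 2], [2,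
    0, 1, 1], [2, 2], [2, 3], [1, 0, 2, 2], [2, 1, 1], [5, 2, 1, 1], [7, 2, 0, 2], [2, 0, 2], [7, 2, 1, 1], [2, 0, 3],
    [1, 4], [3, 1], [8, 4], [6, 1, 1], [5, 5], [5, 1], [4, 4], [1, 0, 0, 1], [6, 1, 4], [8, 1, 1], [1, 3, 1], [2], [1,
    3, 0, 1], [1, 0, 2], [3, 0, 1, 1], [4, 0, 2], [0, 3, 1], [0, 2], [3, 3, 0, 1], [3, 3, 1], [3, 6, 3, 1], [6, 0, 1],
    [6, 3, 3, 1], [3, 1, 3], [3, 1, 2], [0, 1, 3], [4, 0, 4], [1, 1, 4], [7, 0, 1, 1], [5, 1, 1], [5], [4], [4, 3, 1,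
    1], [5, 2], [0, 0, 3], [8, 0, 2], [3, 1, 0, 1], [1, 1, 3], [0, 1], [1], [1, 3], [6, 3, 1]]),
  (29924, [[0, 0], [0], []]),
  (3229, [[8, 5, 5, 0, 0], [], [8, 8, 0, 5], [8, 8, 5, 0], [7, 7], [8, 0, 5, 5, 0], [5, 2, 2, 3, 0], [7], [8, 5, 0, 5,
    0]]),
  (5670, [[2, 3, 7, 7, 3], [6, 6, 4], [11, 11], [], [4, 10, 6, 6], [11, 11, 6, 6, 4], [10, 6, 6, 4], [11], [11, 6, 6,
    4], [6, 4, 4], [3, 7, 7, 3, 2], [7, 3, 3, 7, 2], [7, 2, 3, 2], [3, 9, 7, 2, 2], [8, 3, 7, 2, 2], [9, 3, 7, 2, 2],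
    [3, 2, 7, 2], [7, 7, 3, 2, 3], [10, 10], [10], [11, 10, 10], [11, 10], [9, 8, 8], [4, 10, 6, 4], [10, 6, 4, 4],
    [11, 11, 10], [4, 4, 10, 6]]),
  (4127, [[], [12, 11, 11], [12, 12, 11], [1, 1, 4, 1, 3, 2, 2], [2, 1, 6, 4, 2, 1, 1], [6, 3, 4, 2, 7, 6, 2], [3, 1,
    2, 1, 4, 9, 4, 1], [1, 2, 5, 1, 4, 3, 4, 1], [4, 7, 2, 6, 7, 4, 3, 3]]),
  (25938, [[], [6, 6, 8, 0, 6, 0, 0], [3, 8, 0, 3, 0, 3, 0]])]

/-- the action of the letters from 13 on -/
def RR3 : List (List (List ℕ)) :=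
  [[[1, 0, 0, 0, 0, 2, 0, 1, 2, 0, 0, 2, 2], [0, 1, 0, 1, 0, 1, 2, 1, 2, 1, 2, 1, 1], [0, 0, 2, 0, 0, 0, 0, 0, 0, 1,
    2, 1, 1], [0, 0, 0, 2, 0, 0, 0, 0, 2, 2], [0, 0, 0, 0, 2, 0, 0, 0, 1, 0, 1], [0, 0, 0, 0, 0, 2, 0, 0, 1, 0, 1, 0,
    1], [0, 0, 0, 0, 0, 0, 2, 0, 2, 2, 1, 2, 1], [0, 0, 0, 0, 0, 0, 0, 2, 0, 0, 2, 2, 2], [0, 0, 0, 0, 0, 0, 0, 0, 1,
    0, 0, 1, 1], [0, 0, 0, 0, 0, 0, 0, 0, 0, 1, 0, 0, 2], [0, 0, 0, 0, 0, 0, 0, 0, 0, 0, 1, 2, 1], [0, 0, 0, 0, 0, 0,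
    0, 0, 0, 0, 0, 2], [0, 0, 0, 0, 0, 0, 0, 0, 0, 0, 0, 0, 2]],
  [[2, 0, 0, 0, 1, 0, 1, 1, 0, 0, 2, 0, 1], [0, 1, 0, 0, 0, 1, 2, 0, 2, 2, 0, 2, 2], [0, 0, 2, 0, 2, 0, 0, 2, 1, 2, 0,
    0, 1], [0, 0, 0, 2, 0, 0, 2, 0, 0, 0, 0, 1, 2], [0, 0, 0, 0, 1, 0, 0, 0, 0, 1, 0, 2, 1], [0, 0, 0, 0, 0, 2, 0, 2,
    2, 1], [0, 0, 0, 0, 0, 0, 1, 0, 2, 2, 1], [0, 0, 0, 0, 0, 0, 0, 1, 1, 1], [0, 0, 0, 0, 0, 0, 0, 0, 2, 0, 0, 1],
    [0, 0, 0, 0, 0, 0, 0, 0, 0, 2, 0, 2, 2], [0, 0, 0, 0, 0, 0, 0, 0, 0, 0, 2, 0, 2], [0, 0, 0, 0, 0, 0, 0, 0, 0, 0,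
    0, 1, 1], [0, 0, 0, 0, 0, 0, 0, 0, 0, 0, 0, 0, 2]],
  [[1, 0, 0, 0, 0, 2, 0, 0, 0, 1, 0, 0, 1], [0, 2, 0, 2, 0, 0, 0, 0, 1, 1, 1, 1], [0, 0, 2, 0, 0, 0, 0, 0, 0, 0, 0, 0,
    1], [0, 0, 0, 1, 0, 2, 0, 0, 0, 2, 1, 1, 1], [0, 0, 0, 0, 2, 0, 0, 0, 0, 0, 1, 1, 2], [0, 0, 0, 0, 0, 2, 0, 0, 0,
    0, 1, 1], [0, 0, 0, 0, 0, 0, 1, 2, 0, 2, 1, 1, 1], [0, 0, 0, 0, 0, 0, 0, 2, 0, 0, 1, 1], [0, 0, 0, 0, 0, 0, 0, 0,
    1, 0, 0, 2, 1], [0, 0, 0, 0, 0, 0, 0, 0, 0, 2, 1, 1], [0, 0, 0, 0, 0, 0, 0, 0, 0, 0, 1, 2], [0, 0, 0, 0, 0, 0, 0,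
    0, 0, 0, 0, 2], [0, 0, 0, 0, 0, 0, 0, 0, 0, 0, 0, 0, 2]]]

theorem c30 : chk1 (eqv L3) 3 13 3 cert3 0 = true := by decide +kernel

theorem c31 : chk1 (eqv L3) 3 13 3 cert3 1 = true := by decide +kernel

theorem c32 : ∀ i < 2, chk1 (eqv L3) 3 13 3 cert3 (2 + i) = true := by decide +kernel

theorem c34 : ∀ i < 9, chk1 (eqv L3) 3 13 3 cert3 (4 + i) = true := by decide +kernel

theorem c3 : _root_.Cfsg.Agent.MO.S.Pc.chk (eqv L3) 3 13 3 cert3 = true :=
  Bool.and_eq_true_iff.2 ⟨rfl, List.all_eq_true.2 fun i hi => by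
    rw [List.mem_range] at hi
    rcases (by omega : i = 0 ∨ i = 1 ∨ (2 ≤ i ∧ i < 4) ∨ 4 ≤ i) with rfl | rfl | h | h
    · exact c30
    · exact c31
    · exact Nat.add_sub_cancel' h.1 ▸ c32 (i - 2) (by omega)
    · exact Nat.add_sub_cancel' h ▸ c34 (i - 4) (by omega)⟩

theorem s3 : (chn (imw (f L3)) (fun _ => true) 13 lv3 [] && Nat.ble (3 ^ 13) (lv3.map fun v => v.2.length).prod) = true := by
  rw [f_eq]
  decide +kernel

theorem n30 : nrm (eqv L3) 13 [13 + 0] (RR3.getD 0 []) = true := by decide +kernel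

theorem n31 : nrm (eqv L3) 13 [13 + 1] (RR3.getD 1 []) = true := by decide +kernel

theorem n32 : nrm (eqv L3) 13 [13 + 2] (RR3.getD 2 []) = true := by decide +kernel

theorem n3 : nrms (eqv L3) 13 RR3 = true :=
  List.all_eq_true.2 fun i hi => by
    replace hi : i < 3 := List.mem_range.1 hi
    interval_cases i
    exacts [n30, n31, n32]

theorem bd3 (Q : Sylow 3 Fi23) (hQ : (Q : Subgroup Fi23) = V (y L3) 13 0) :
    Nat.card (normalizer (V (y L3) 13 0 : Set Fi23)) ≤ 3 ^ 13 * 8 := by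
  have := fin23
  have hc := card_ge' s3
  have hp := pc_of_chk (he L3) c3
  obtain ⟨T, hT⟩ := inF23
  have h3 := norm_comm (he L3) c3
  have h5 := norm_low (he L3) c3 (l := 5) (by decide +kernel) h3
  have h7 := norm_low (he L3) c3 (l := 7) (by decide +kernel) h5
  have h8 := norm_low (he L3) c3 (l := 8) (by decide +kernel) h7
  have h9 := norm_low (he L3) c3 (l := 9) (by decide +kernel) h8
  have h10 := norm_low (he L3) c3 (l := 10) (by decide) h9
  have h11 := norm_low (he L3) c3 (l := 11) (by decide) h10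
  have h12 := norm_low (he L3) c3 (l := 12) (by decide) h11
  have h13 := norm_low (he L3) c3 (l := 13) (by decide) h12
  have h1 := norm_flag (he L3) c3 hc (k := 0) (l := 12) (by decide) le_rfl h11 h13
  have h2 := norm_flag (he L3) c3 hc (k := 1) (l := 9) (by decide) h1 h8 h10
  refine card_flag hp hc Q hQ (Up.cent_pgroup (q := 3 ^ 13) hT.1 hT.2.1 (by decide +kernel) _
    (by rw [hQ, hp.card_zero hc])) fun k hk => ?_
  interval_cases k
  exacts [le_rfl, h1, h2, h3]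

theorem loc3 : ∃ Q : Sylow 3 Fi23, k0 3 (normalizer ((Q : Subgroup Fi23) : Set Fi23)) = 27 :=
  have := fin23
  k0_syl (he L3) c3 (by decide) (card_ge' s3) (o := 2565020057600) card23 (by decide) n3 bd3
    (prog := [1, 2, 3, 0, 0, 3, 0, 0, 2, 3, 0, 0, 3]) (by decide +kernel)

/-! ### `p = 5` -/

instance factFive : Fact (Nat.Prime 5) := ⟨by norm_num⟩

/-- the letters -/
def L5 : List ℕ := [0x5d2a73cad54fb4176, 0x20c41, 0x1cc8, 0xb64ddf86e4636d45ed6d384]

/-- the action of the letters 2 and 3 -/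
def RR5 : List (List (List ℕ)) := [[[2, 0], [0, 1]], [[4, 4], [4, 1]]]

/-- eight points -/
def O5 : List ℕ := [22903, 22955, 23537, 23977, 24174, 24197, 24711, 24815]

/-- the action on the points -/
def sg5 : List (List ℕ) := [[5, 4, 0, 1, 6, 7, 3, 2], [1, 0, 2, 5, 4, 3, 6, 7]]

/-- the enumeration of the group -/
def prog5 : List ℕ :=
  [1, 1, 1, 2, 1, 1, 1, 2, 1, 1, 1, 2, 0, 0, 0, 2, 0, 0, 2, 0, 0, 0, 2, 1, 1, 1, 0, 2, 1, 2, 0, 0, 0, 0, 2, 0, 0, 2,
    0, 0, 0, 2, 1, 1, 1, 2, 1, 1, 0, 2, 0, 0, 2, 0, 0, 0, 2, 2, 0, 0, 0, 2, 2, 2, 2, 2, 0, 0, 0, 0, 0, 0, 2, 2, 2, 2,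
    2, 0, 0, 0, 0, 0, 0, 0, 2, 2, 2, 2, 2, 2, 0, 0, 0, 0, 0, 0, 0, 0, 2, 1, 1, 1, 2, 1, 1, 1, 2, 0, 0, 0, 2, 0, 0, 2,
    0, 0, 0, 2, 1, 1, 1, 0, 2, 1, 2, 0, 0, 0, 0, 2, 0, 0, 2, 0, 0, 0, 2, 1, 1, 1, 2, 1, 1, 0, 2, 0, 0, 2, 0, 0, 0, 2,
    2, 0, 0, 0, 2, 2, 2, 2, 2, 0, 0, 0, 0, 0, 0, 2, 2, 2, 2, 2, 0, 0, 0, 0, 0, 0, 0, 2, 2, 2, 2, 2, 2, 0, 0, 0, 0, 0,
    0, 0, 0, 2, 1, 1, 1, 2, 1, 1, 1, 2, 0, 0, 0, 2, 0, 0, 2, 0, 0, 0, 2, 1, 1, 1, 0, 2, 1, 2, 0, 0, 0, 0, 2, 0, 0, 2,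
    0, 0, 0, 2, 1, 1, 1, 2, 1, 1, 0, 2, 0, 0, 2, 0, 0, 0, 2, 2, 0, 0, 0, 2, 2, 2, 2, 2, 0, 0, 0, 0, 0, 0, 2, 2, 2, 2,
    2, 0, 0, 0, 0, 0, 0, 0, 2, 2, 2, 2, 2, 2, 0, 0, 0, 0, 0, 0, 0, 0, 2, 1, 1, 1, 2, 1, 1, 1, 2, 0, 0, 0, 2, 0, 0, 2,
    0, 0, 0, 2, 1, 1, 1, 0, 2, 1, 2, 0, 0, 0, 0, 2, 0, 0, 2, 0, 0, 0, 2, 1, 1, 1, 2, 1, 1, 0, 2, 0, 0, 2, 0, 0, 0, 2,
    2, 0, 0, 0, 2, 2, 2, 2, 2, 0, 0, 0, 0, 0, 0, 2, 2, 2, 2, 2, 0, 0, 0, 0, 0, 0, 0, 2, 2, 2, 2, 2, 2]

theorem c5 : _root_.Cfsg.Agent.MO.S.Pc.chk (eqv L5) 5 2 2 ⟨[], [], []⟩ = true := by decide +kernel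

theorem s5 : (chn (imw (f L5)) (fun _ => true) 2 [(0, [[], [0, 0, 0, 0], [0, 0, 0], [0, 0], [0]]),
    (4, [[], [1, 1, 1, 1], [1, 1, 1], [1, 1], [1]])] [] && Nat.ble (5 ^ 2) ([5, 5] : List ℕ).prod) = true := by
  decide +kernel

theorem n5 : ∀ i < 2, nrm (eqv L5) 2 [2 + i] (RR5.getD i []) = true := by decide +kernel

theorem p5 : ∀ i < 2, ∀ k < 8, f L5 (2 + i) (O5.getD k 0) = O5.getD ((sg5.getD i []).getD k 0) 0 := by decide +kernel

section Fast

private noncomputable def lv (f : ℕ × ℕ → ℕ) (L : List (ℕ × ℕ)) : ℕ := List.rec 0 (fun c _ ih => Nat.add (Nat.mul 65536 ih) (f c)) L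

private theorem lv_cons (f : ℕ × ℕ → ℕ) (c : ℕ × ℕ) (L : List (ℕ × ℕ)) : lv f (c :: L) = 2 ^ 16 * lv f L + f c := rfl

private theorem lv_add (f g : ℕ × ℕ → ℕ) : ∀ L, Nat.add (lv f L) (lv g L) = lv (fun c => f c + g c) L
  | [] => rfl
  | c :: L => by rw [lv_cons, lv_cons, lv_cons, ← lv_add f g L, Nat.add_eq, Nat.add_eq]; ring

private theorem lv_mul (k : ℕ) (f : ℕ × ℕ → ℕ) : ∀ L, Nat.mul k (lv f L) = lv (fun c => k * f c) L
  | [] => rfl
  | c :: L => by rw [lv_cons, lv_cons, ← lv_mul k f L, Nat.mul_eq, Nat.mul_eq]; ring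

private theorem lv_mod (f : ℕ × ℕ → ℕ) : ∀ L, lv f L % 65535 = (L.map f).sum % 65535
  | [] => rfl
  | c :: L => by
    have h := lv_mod f L
    rw [lv_cons, List.map_cons, List.sum_cons]
    (solve | lia | omega)

private theorem lv_bit {op : ℕ → ℕ → ℕ} {b : Bool → Bool → Bool} (h : ∀ x y i, (op x y).testBit i = b (x.testBit i) (y.testBit i))
    (h0 : b false false = false) {f g : ℕ × ℕ → ℕ} (hf : ∀ c, f c < 2 ^ 16) (hg : ∀ c, g c < 2 ^ 16) :
    ∀ L, op (lv f L) (lv g L) = lv (fun c => op (f c) (g c)) L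
  | [] => Nat.eq_of_testBit_eq fun i => (h 0 0 i).trans (by rw [Nat.zero_testBit, h0]; exact (Nat.zero_testBit i).symm)
  | c :: L => Nat.eq_of_testBit_eq fun i => by
    have h1 : op (f c) (g c) < 2 ^ 16 := Nat.lt_pow_two_of_testBit _ fun j hj => by
      rw [h, Nat.testBit_lt_two_pow ((hf c).trans_le (Nat.pow_le_pow_right two_pos hj)),
        Nat.testBit_lt_two_pow ((hg c).trans_le (Nat.pow_le_pow_right two_pos hj)), h0]
    rw [h, lv_cons, lv_cons, lv_cons, Nat.testBit_two_pow_mul_add _ (hf c), Nat.testBit_two_pow_mul_add _ (hg c),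
      Nat.testBit_two_pow_mul_add _ h1, ← lv_bit h h0 hf hg L, h, h]
    split_ifs <;> rfl

private theorem lv_and {f g : ℕ × ℕ → ℕ} (hf : ∀ c, f c < 2 ^ 16) (hg : ∀ c, g c < 2 ^ 16) (L : List (ℕ × ℕ)) :
    Nat.land (lv f L) (lv g L) = lv (fun c => f c &&& g c) L := lv_bit (op := Nat.land) (b := and) Nat.testBit_and rfl hf hg L

private theorem lv_xor {f g : ℕ × ℕ → ℕ} (hf : ∀ c, f c < 2 ^ 16) (hg : ∀ c, g c < 2 ^ 16) (L : List (ℕ × ℕ)) :
    Nat.xor (lv f L) (lv g L) = lv (fun c => f c ^^^ g c) L := lv_bit (op := Nat.xor) (b := xor) Nat.testBit_xor rfl hf hg L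

private noncomputable def lq (O a b : ℕ) : ℕ :=
  Nat.xor O (Nat.div (Nat.land (Nat.add (Nat.xor a b) (Nat.mul 4095 O)) (Nat.mul 4096 O)) 4096)

private theorem ind_lt (b : Bool) : cond b 1 0 < 2 ^ 16 := by cases b <;> decide

private theorem lq_eq {f g : ℕ × ℕ → ℕ} (hf : ∀ c, f c < 4096) (hg : ∀ c, g c < 4096) (L : List (ℕ × ℕ)) :
    lq (lv (fun _ => 1) L) (lv f L) (lv g L) = lv (fun c => cond (Nat.beq (f c) (g c)) 1 0) L := by
  have h1 : ∀ c, f c ^^^ g c < 4096 := fun c => Nat.xor_lt_two_pow (n := 12) (hf c) (hg c)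
  have h2 : ∀ c, (f c ^^^ g c) + 4095 * 1 &&& 4096 * 1 = 4096 * cond (Nat.beq (f c) (g c)) 0 1 := fun c => by
    have h3 := h1 c
    refine (Nat.and_two_pow _ 12).trans ?_
    rw [Nat.testBit_eq_decide_div_mod_eq]
    by_cases e : f c = g c
    · rw [e, Nat.xor_self, Nat.beq_refl]; rfl
    · have h4 : f c ^^^ g c ≠ 0 := fun e' => e (Nat.eq_of_xor_eq_zero e')
      rw [decide_eq_true (by omega), Bool.eq_false_iff.2 fun e' => e (Nat.eq_of_beq_eq_true e')]; rfl
  rw [lq, lv_xor (fun c => (hf c).trans (by decide)) (fun c => (hg c).trans (by decide)), lv_mul, lv_mul, lv_add,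
    lv_and (fun c => by have := h1 c; omega) (fun _ => by decide), funext h2, ← lv_mul]
  refine (congrArg (Nat.xor _) (Nat.mul_div_cancel_left _ (by decide))).trans ((lv_xor (fun _ => by decide) (fun c => ?_) L).trans
    (congrArg (lv · L) (funext fun c => ?_))) <;> cases Nat.beq (f c) (g c) <;> decide

private def un (c : ℕ × ℕ) : ℕ := Nat.shiftRight c.1 64

private noncomputable def col (L : List (ℕ × ℕ)) (x : ℕ) : ℕ := lv (fun c => get (un c) x) L

private noncomputable def lm (L : List (ℕ × ℕ)) (x v : ℕ) : ℕ := lq (lv (fun _ => 1) L) (col L x) (Nat.mul v (lv (fun _ => 1) L))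

private theorem lm_eq (L : List (ℕ × ℕ)) (x : ℕ) {v : ℕ} (hv : v < 4096) : lm L x v = lv (fun c => cond (Nat.beq (get (un c) x) v) 1 0) L := by
  rw [lm, col, lv_mul, lq_eq (fun _ => get_lt _ _) (fun _ => by omega), mul_one]

private noncomputable def lt' (L : List (ℕ × ℕ)) (t y D : ℕ) : ℕ :=
  Nat.rec 0 (fun v acc => Nat.add acc (Nat.mul (get t v) (lm L y v))) D

private theorem lv_zero : ∀ L, lv (fun _ => 0) L = 0
  | [] => rfl
  | c :: L => by rw [lv_cons, lv_zero L]; rfl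

private theorem lt_eq (L : List (ℕ × ℕ)) (t y : ℕ) : ∀ D ≤ 4096,
    lt' L t y D = lv (fun c => if get (un c) y < D then get t (get (un c) y) else 0) L
  | 0, _ => (lv_zero L).symm
  | D + 1, h => by
    refine (congrArg₂ Nat.add (lt_eq L t y D (by omega)) (congrArg (Nat.mul _) (lm_eq L y (by omega)))).trans ?_
    rw [lv_mul, lv_add]
    refine congrArg (lv · L) (funext fun c => ?_)
    by_cases e : get (un c) y = D
    · rw [e, Nat.beq_refl, if_neg (lt_irrefl _), if_pos (Nat.lt_succ_self _), cond_true, mul_one, zero_add]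
    · rw [Bool.eq_false_iff.2 fun e' => e (Nat.eq_of_beq_eq_true e'), cond_false, mul_zero, add_zero]
      exact if_congr (by omega) rfl rfl

private noncomputable def lc (D t : ℕ) (L bl : List (ℕ × ℕ)) : ℕ :=
  List.rec (lv (fun _ => 1) L) (fun e _ ih => Nat.land (lq (lv (fun _ => 1) L) (col L e.2) (lt' L t e.1 D)) ih) bl

private theorem lc_eq {D t : ℕ} (hD : D ≤ 4096) (ht : t < 4096 ^ D) (L : List (ℕ × ℕ)) :
    ∀ bl, lc D t L bl = lv (fun c => cond (allB t (un c) bl) 1 0) L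
  | [] => rfl
  | e :: bl => by
    have h1 : lt' L t e.1 D = lv (fun c => get t (get (un c) e.1)) L := (lt_eq L t e.1 D hD).trans (congrArg (lv · L) (funext fun c => by
      split_ifs with h
      · rfl
      · rw [get_eq t, Nat.div_eq_of_lt (ht.trans_le (Nat.pow_le_pow_right (by decide) (not_lt.1 h)))]))
    refine (congrArg₂ Nat.land (by rw [h1, col, lq_eq (fun _ => get_lt _ _) fun _ => get_lt _ _]) (lc_eq hD ht L bl)).trans
      ((lv_and (fun _ => ind_lt _) (fun _ => ind_lt _) L).trans (congrArg (lv · L) (funext fun c => ?_)))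
    show _ = cond (Bool.rec (motive := fun _ => Bool) false (allB t (un c) bl) (Nat.beq (get (un c) e.2) (get t (get (un c) e.1)))) 1 0
    cases Nat.beq (get (un c) e.2) (get t (get (un c) e.1)) <;> cases allB t (un c) bl <;> rfl

private noncomputable def ls (K : ℕ) (L fl : List (ℕ × ℕ)) : ℕ :=
  List.rec 0 (fun e _ ih => Nat.add (Nat.land K (lm L e.2 e.1)) ih) fl

private theorem ls_eq (p : ℕ × ℕ → Bool) (L : List (ℕ × ℕ)) : ∀ fl : List (ℕ × ℕ), (∀ e ∈ fl, e.1 < 4096) →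
    ls (lv (fun c => cond (p c) 1 0) L) L fl = lv (fun c => if p c then cntF (un c) fl else 0) L
  | [], _ => (lv_zero L).symm.trans (congrArg (lv · L) (funext fun _ => (ite_self _).symm))
  | e :: fl, h => by
    refine (congrArg₂ Nat.add (by rw [lm_eq L _ (h e List.mem_cons_self), lv_and (fun _ => ind_lt _) fun _ => ind_lt _])
      (ls_eq p L fl fun x hx => h x (List.mem_cons_of_mem _ hx))).trans ((lv_add _ _ L).trans (congrArg (lv · L) (funext fun c => ?_)))
    show _ = if p c then Bool.rec (motive := fun _ => ℕ) (cntF (un c) fl) (cntF (un c) fl + 1) (Nat.beq (get (un c) e.2) e.1) else 0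
    cases Nat.beq (get (un c) e.2) e.1 <;> cases p c
    exacts [rfl, Nat.zero_add _, rfl, Nat.add_comm _ _]

private noncomputable def innerF (D : ℕ) (S L : List (ℕ × ℕ)) (t : ℕ) (bl fl : List (ℕ × ℕ)) : ℕ :=
  cond (Nat.ble D 4096 && Nat.blt t (Nat.pow 4096 D) && Nat.blt (Nat.mul L.length fl.length) 65535 && fl.all fun e => Nat.blt e.1 4096)
    (Nat.mod (MO.L.frc (lc D t S bl) fun K => ls K S fl) 65535) (MO.L.inner t bl fl L)

private def sal (c : ℕ × ℕ) : ℕ := Nat.add (Nat.mul 18446744073709551616 c.1) (Nat.mod c.1 18446744073709551557)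

private theorem un_sal (c : ℕ × ℕ) : un (sal c, 0) = c.1 := by
  show (18446744073709551616 * c.1 + c.1 % 18446744073709551557) >>> 64 = c.1
  rw [Nat.shiftRight_eq_div_pow]
  omega

private theorem inner_fast (D : ℕ) (L : List (ℕ × ℕ)) :
    innerF D (L.map fun c => (sal c, 0)) L = fun t bl fl => MO.L.inner t bl fl L := by
  funext t bl fl
  rw [innerF]
  cases h : (Nat.ble D 4096 && Nat.blt t (Nat.pow 4096 D) && Nat.blt (Nat.mul L.length fl.length) 65535 && fl.all fun e => Nat.blt e.1 4096)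
  · rfl
  · simp only [Bool.and_eq_true, Nat.blt_eq, Nat.ble_eq, List.all_eq_true] at h
    rw [cond_true, MO.L.frc_eq, lc_eq h.1.1.1 h.1.1.2, ls_eq _ _ fl h.2, inner_eq]
    refine (lv_mod _ _).trans ?_
    simp only [List.map_map, Function.comp_def, un_sal]
    refine Nat.mod_eq_of_lt (lt_of_le_of_lt ?_ h.1.2)
    refine (List.sum_le_card_nsmul _ fl.length fun x hx => ?_).trans (by rw [List.length_map]; rfl)
    obtain ⟨c, -, rfl⟩ := List.mem_map.1 hx
    split_ifs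
    · rw [cntF_eq]
      exact List.countP_le_length
    · exact Nat.zero_le _

private noncomputable def slK (L : List (ℕ × ℕ)) : (List (ℕ × ℕ) → Bool) → Bool :=
  List.rec (fun k => k []) (fun c _ ih k => MO.L.frc (sal c) fun s => ih fun r => k ((s, 0) :: r)) L

private theorem slK_eq : ∀ L k, slK L k = k (L.map fun c => (sal c, 0))
  | [], _ => rfl
  | c :: L, k => (MO.L.frc_eq (sal c) fun s => slK L fun r => k ((s, 0) :: r)).trans (slK_eq L _)

private noncomputable def outG (I : ℕ → List (ℕ × ℕ) → List (ℕ × ℕ) → ℕ) (P μ : ℕ) (base : List ℕ) (L : List (ℕ × ℕ)) : ℕ :=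
  List.rec 0 (fun a _ ih => Nat.add (fixK a.1 μ (fun fl => baseK a.2 (fun bl => I a.1 bl fl) base []) P []) ih) L

private noncomputable def chkF (D P : ℕ) (base : List ℕ) (gens : List (ℕ × ℕ)) (μ : ℕ) (prog : List ℕ) (n c : ℕ) : Bool :=
  lst D gens prog fun L => slK L fun S => Nat.beq L.length n && ndp L && Nat.beq (outG (innerF D S L) P μ base L) c

private theorem chk_fast : MO.L.chk = chkF := by
  funext D P base gens μ prog n c
  refine congrArg (lst D gens prog) (funext fun L => ?_)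
  rw [slK_eq, inner_fast]
  rfl

end Fast

theorem e5 : chkE 5 2 8 2 RR5 sg5 (idW 2) (idM 2) prog5 192 40 = true := by
  delta MO.L.chkE
  rw [chk_fast]
  decide +kernel

theorem loc5 : ∃ Q : Sylow 5 Fi23, k0 5 (normalizer ((Q : Subgroup Fi23) : Set Fi23)) = 40 := by
  have := fin23
  let _ := ma
  have hc := card_ge' s5
  have hp := pc_of_chk (he L5) c5
  obtain ⟨Q, hQ⟩ := hp.sylow hc (o := 163578818931720192) card23 (by decide)
  have h1 := (H838.Fi23.Syl.main (MulEquiv.refl Fi23) rfl Q).2.2.2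
  refine ⟨Q, ?_⟩
  rw [hQ] at h1 ⊢
  refine (k0_of_chkE (loc_of_chk (he L5) c5 (by decide) hc) le_normalizer le_rfl (by rw [h1, hp.card_zero hc]; decide)
    (g := fun i => ev (y L5) [2 + i]) (fun i hi => nrm_mem (he L5) (n5 i hi)) (fun i hi => mt_of_nrm (he L5) c5 (n5 i hi))
    (ω := fun k => O5.getD k 0) (by decide) (fun i hi k hk => ?_) e5).1
  rw [ev_cons, ev_nil, mul_one, ← p5 i hi k hk, ← f_spec]
  rfl

end Cfsg.Agent.MO.S.Fi23
end

-- part: MO/S/Fi23/Main
section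
/-!
# MO, the row `Fi23` (helper61)
-/

set_option autoImplicit false

namespace Cfsg.Agent.MO.S

open Cfsg Cfsg.Agent.MO.T

theorem fi23_1_3 : SmC 3 1 Spor.Fi23 :=
  have := TAB.F23C.fin23
  smC_one_inn (inn_of_index S2080.result) fun _ => Fi23.loc3.imp fun _ h =>
    h.trans ((k0_of_degList TAB.F23C.deg).trans (by decide +kernel)).symm

theorem fi23_1_5 : SmC 5 1 Spor.Fi23 :=
  have := TAB.F23C.fin23
  have := Fi23.factFive
  smC_one_inn (inn_of_index S2080.result) fun _ => Fi23.loc5.imp fun _ h =>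
    h.trans ((k0_of_degList TAB.F23C.deg).trans (by decide +kernel)).symm

end Cfsg.Agent.MO.S
end

-- part: MO/S/O82/Base
section
/-!
# MO, the Weyl group of type `E₈` : order, centre, letters and classes (helper65)
-/

set_option autoImplicit false

namespace Cfsg.Agent.MO.S.O82

open Cfsg Finset Subgroup Cfsg.Agent.LV.W Cfsg.Agent.OddHalf.D9.EEight Cfsg.Agent.OddHalf.D9.EEight.Id
open Cfsg.Agent.ChevalleyStructure.CoxeterGeom (IsCartan)
open Cfsg.Agent.TAB.Eng (frc frc_eq)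

/-- the powers of a matrix -/
noncomputable def powL (P : List (List ℤ)) (m : ℕ) : List (List ℤ) :=
  Nat.rec oneL (fun _ ih => frcM ih fun Q => mulL Q P) m

theorem Rep.pow {Y : Type} [Group Y] {ρ : Y →* Matrix (Fin 8) (Fin 8) ℤ} {x : Y} {P : List (List ℤ)} (h : Rep ρ x P)
    (m : ℕ) : Rep ρ (x ^ m) (powL P m) := by
  induction m with
  | zero => exact pow_zero x ▸ Rep.one
  | succ m ih =>
    rw [pow_succ, show powL P (m + 1) = _ from frcM_eq (powL P m) fun Q => mulL Q P]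
    exact ih.mul h

/-- the reflection representation -/
def ρW : W →* Matrix (Fin 8) (Fin 8) ℤ := (Units.coeHom _).comp W.subtype

/-- the sign -/
def sW : W →* ℤ := (Units.coeHom ℤ).comp det

theorem ρW_inj : Function.Injective ρW := Units.val_injective.comp W.subtype_injective

theorem ap_eq (w : W) (x : Fin 8 → ℤ) : ap w x = (ρW w).mulVec x := rfl

theorem ρW_neg : ρW neg = -1 := rfl

theorem sW_neg : sW neg = 1 := by rw [sW, MonoidHom.comp_apply, Onto.det_neg', map_one]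

theorem mem_K {w : W} : w ∈ K₀ ↔ sW w = 1 := Units.val_eq_one.symm

theorem index_K : K₀.index = 2 := by
  rw [K₀, index_ker, MonoidHom.range_eq_top.2 fun u => ?_, card_top, Nat.card_eq_fintype_card, Fintype.card_units_int]
  rcases Int.units_eq_one_or u with rfl | rfl
  exacts [⟨1, map_one _⟩, ⟨_, Gen.det_s 0⟩]

theorem card_W : Nat.card W = 696729600 := by rw [← K₀.card_mul_index, index_K, Main.card_K, Onto.card_P]

instance finiteW : Finite W := Nat.finite_of_card_ne_zero (by rw [card_W]; decide)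

theorem neg_mem : neg ∈ center W := mem_center_iff.2 fun w => (Onto.neg_comm w).symm

theorem center_W (y : W) : y ∈ center W ↔ y = 1 ∨ y = neg := by
  refine ⟨fun hy => ?_, by rintro (rfl | rfl); exacts [one_mem _, neg_mem]⟩
  have h1 : ∀ i, ap y (Gen.e i) = ap y (Gen.e i) i • Gen.e i := fun i => by
    have h := congrArg (fun w => ap w (Gen.e i)) (mem_center_iff.1 hy (Gen.s i))
    simp only [ap_mul, Gen.ap_s, ap_sub, ap_smul, show form (Gen.e i) (Gen.e i) = 2 from Gen.isRoot_e i] at h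
    funext j
    have h2 := congrFun (sub_right_injective h) j
    by_cases hj : j = i
    · simp [hj, Gen.e]
    · simpa [Gen.e, hj] using h2
  generalize hc : (fun i => ap y (Gen.e i) i) = c
  replace h1 : ∀ i, ap y (Gen.e i) = c i • Gen.e i := hc ▸ h1
  have h2 : ∀ i j, GM i j ≠ 0 → c i * c j = 1 := fun i j h => by
    have h3 := form_ap y (Gen.e i) (Gen.e j)
    rw [h1, h1, form_smul_left, form_smul_right, Gen.form_e_e, ← mul_assoc] at h3
    exact (mul_eq_right₀ h).1 h3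
  have h3 : ∀ i j, GM i j ≠ 0 → c i = c j := fun i j h => Int.eq_of_mul_eq_one (h2 i j h)
  have e2 := h3 2 0 (by decide)
  have e3 := (h3 3 2 (by decide)).trans e2
  have e4 := (h3 4 3 (by decide)).trans e3
  have e5 := (h3 5 4 (by decide)).trans e4
  have e6 := (h3 6 5 (by decide)).trans e5
  have h4 : ∀ x, ap y x = c 0 • x := fun x => by
    have h : x = ∑ i, x i • Gen.e i := by
      funext j
      rw [Finset.sum_apply]
      simp [Gen.e, Pi.single_apply]
    rw [h, Fin.sum_univ_eight]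
    simp only [ap_add, ap_smul, h1, e2, e3, e4, e5, e6, (h3 7 6 (by decide)).trans e6, (h3 1 3 (by decide)).trans e3,
      smul_add, smul_comm (c 0)]
  exact (Int.eq_one_or_neg_one_of_mul_eq_one (h2 0 0 (by decide))).imp
    (fun h => ext_ap fun x => by rw [h4, h, one_smul, ap_one]) fun h => ext_ap fun x => by
      rw [h4, h, neg_one_smul, ap_neg_one]

theorem card_two {Y : Type} [Group Y] {z : Y} (hc : ∀ y, y ∈ center Y ↔ y = 1 ∨ y = z) (h1 : z ≠ 1) :
    Nat.card (center Y) = 2 :=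
  Nat.card_eq_two_iff.2 ⟨1, ⟨z, (hc z).2 (Or.inr rfl)⟩, fun e => h1 (congrArg Subtype.val e).symm,
    Set.eq_univ_of_forall fun y => ((hc y).1 y.2).imp Subtype.ext Subtype.ext⟩

theorem center_K : (center K₀).map K₀.subtype = center W := by
  refine le_antisymm ?_ fun y hy => ?_
  · rintro _ ⟨z, hz, rfl⟩
    have h1 : Onto.toE z ∈ center _ := mem_center_iff.2 fun g => by
      obtain ⟨w, rfl⟩ := Onto.toE_surj g
      rw [← map_mul, ← map_mul, mem_center_iff.1 hz]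
    rw [Onto.center_E] at h1
    exact (center_W _).2 (ModTwo.eq_of_rho2 ((Onto.coe_toE z).symm.trans (by rw [mem_bot.1 h1, Subgroup.coe_one])))
  · rcases (center_W y).1 hy with rfl | rfl
    exacts [one_mem _, ⟨Onto.negK, mem_center_iff.2 fun w => (Onto.negK_comm w).symm, rfl⟩]

/-! ### letters -/

def em8 (a : ℕ) : Fin 8 := ⟨a % 8, Nat.mod_lt _ (by decide)⟩

/-- the simple reflections -/
noncomputable def a8 (d : ℕ) : W := if d < 8 then Gen.s (em8 d) else 1

def L8 : List (List (List ℤ)) :=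
  [[[-1, 0, 0, 0, 0, 0, 0, 0], [0, 1, 0, 0, 0, 0, 0, 0], [1, 0, 1, 0, 0, 0, 0, 0], [0, 0, 0, 1, 0, 0, 0, 0],
    [0, 0, 0, 0, 1, 0, 0, 0], [0, 0, 0, 0, 0, 1, 0, 0], [0, 0, 0, 0, 0, 0, 1, 0], [0, 0, 0, 0, 0, 0, 0, 1]],
    [[1, 0, 0, 0, 0, 0, 0, 0], [0, -1, 0, 0, 0, 0, 0, 0], [0, 0, 1, 0, 0, 0, 0, 0], [0, 1, 0, 1, 0, 0, 0, 0],
    [0, 0, 0, 0, 1, 0, 0, 0], [0, 0, 0, 0, 0, 1, 0, 0], [0, 0, 0, 0, 0, 0, 1, 0], [0, 0, 0, 0, 0, 0, 0, 1]],
    [[1, 0, 1, 0, 0, 0, 0, 0], [0, 1, 0, 0, 0, 0, 0, 0], [0, 0, -1, 0, 0, 0, 0, 0], [0, 0, 1, 1, 0, 0, 0, 0],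
    [0, 0, 0, 0, 1, 0, 0, 0], [0, 0, 0, 0, 0, 1, 0, 0], [0, 0, 0, 0, 0, 0, 1, 0], [0, 0, 0, 0, 0, 0, 0, 1]],
    [[1, 0, 0, 0, 0, 0, 0, 0], [0, 1, 0, 1, 0, 0, 0, 0], [0, 0, 1, 1, 0, 0, 0, 0], [0, 0, 0, -1, 0, 0, 0, 0],
    [0, 0, 0, 1, 1, 0, 0, 0], [0, 0, 0, 0, 0, 1, 0, 0], [0, 0, 0, 0, 0, 0, 1, 0], [0, 0, 0, 0, 0, 0, 0, 1]],
    [[1, 0, 0, 0, 0, 0, 0, 0], [0, 1, 0, 0, 0, 0, 0, 0], [0, 0, 1, 0, 0, 0, 0, 0], [0, 0, 0, 1, 1, 0, 0, 0],
    [0, 0, 0, 0, -1, 0, 0, 0], [0, 0, 0, 0, 1, 1, 0, 0], [0, 0, 0, 0, 0, 0, 1, 0], [0, 0, 0, 0, 0, 0, 0, 1]],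
    [[1, 0, 0, 0, 0, 0, 0, 0], [0, 1, 0, 0, 0, 0, 0, 0], [0, 0, 1, 0, 0, 0, 0, 0], [0, 0, 0, 1, 0, 0, 0, 0],
    [0, 0, 0, 0, 1, 1, 0, 0], [0, 0, 0, 0, 0, -1, 0, 0], [0, 0, 0, 0, 0, 1, 1, 0], [0, 0, 0, 0, 0, 0, 0, 1]],
    [[1, 0, 0, 0, 0, 0, 0, 0], [0, 1, 0, 0, 0, 0, 0, 0], [0, 0, 1, 0, 0, 0, 0, 0], [0, 0, 0, 1, 0, 0, 0, 0],
    [0, 0, 0, 0, 1, 0, 0, 0], [0, 0, 0, 0, 0, 1, 1, 0], [0, 0, 0, 0, 0, 0, -1, 0], [0, 0, 0, 0, 0, 0, 1, 1]],
    [[1, 0, 0, 0, 0, 0, 0, 0], [0, 1, 0, 0, 0, 0, 0, 0], [0, 0, 1, 0, 0, 0, 0, 0], [0, 0, 0, 1, 0, 0, 0, 0],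
    [0, 0, 0, 0, 1, 0, 0, 0], [0, 0, 0, 0, 0, 1, 0, 0], [0, 0, 0, 0, 0, 0, 1, 1], [0, 0, 0, 0, 0, 0, 0, -1]]]

theorem rep_s (i : Fin 8) : Rep ρW (Gen.s i) (nth oneL L8 i) :=
  ⟨by revert i; decide, (Gen.coe_refl (Gen.isRoot_e i)).trans (by revert i; decide +kernel)⟩

theorem nth_ge {α : Type} (d : α) {l : List α} {n : ℕ} (h : l.length ≤ n) : nth d l n = d := by
  rw [nth_eq, List.getD_eq_default _ _ h]

theorem lt8 : Lt ρW a8 L8 := fun d => by
  rw [a8]
  split_ifs with h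
  · have h1 := rep_s (em8 d)
    rwa [show ((em8 d : Fin 8) : ℕ) = d from Nat.mod_eq_of_lt h] at h1
  · rw [nth_ge (l := L8) _ (not_lt.1 h)]
    exact Rep.one

theorem sg8 (d : ℕ) : sW (a8 d) = nth 1 [-1, -1, -1, -1, -1, -1, -1, -1] d := by
  rw [a8]
  split_ifs with h
  · exact (congrArg Units.val (Gen.det_s _)).trans (by revert d; decide)
  · rw [nth_ge _ (not_lt.1 h), map_one]

theorem Rep.eq_one {Y : Type} [Group Y] {ρ : Y →* Matrix (Fin 8) (Fin 8) ℤ} (hρ : Function.Injective ρ) {x : Y}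
    {P : List (List ℤ)} (h : Rep ρ x P) (e : eqM P oneL = true) : x = 1 :=
  hρ (h.2.trans ((congrArg mat (eqM_iff.1 e)).trans Rep.one.2.symm))

theorem lift8 : CoxeterMatrix.E₈.IsLiftable Gen.s := fun i j =>
  (((rep_s i).mul (rep_s j)).pow _).eq_one ρW_inj (by revert i j; decide +kernel)

theorem cartan8 : IsCartan CoxeterMatrix.E₈ fun i j => CartanMatrix.E₈ i j :=
  ⟨by decide, fun i j h => Or.imp_right Or.inl (by revert h; fin_cases i <;> fin_cases j <;> decide)⟩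

/-- **the classes** -/
theorem cl8 [Fintype W] : Cl ⊥ 112 (fun k => wrd a8 256 (E8.e k)) (nth 0 E8.nW) 696729600 := by
  have : Finite CoxeterMatrix.E₈.Group :=
    Nat.finite_of_card_ne_zero (by rw [S1093.result (⟨8, CoxeterMatrix.E₈⟩, 696729600) (by simp)]; decide)
  have := Fintype.ofFinite CoxeterMatrix.E₈.Group
  have h := cl_of_node (cs := CoxeterMatrix.E₈.toCoxeterSystem) (h := cartan8) (em := em8)
    (Fit.top (by decide +kernel) (fun i => ⟨i, i.2, Fin.ext (Nat.mod_eq_of_lt i.2)⟩) fun a ha =>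
      congrArg (fun b => CoxeterMatrix.E₈.toCoxeterSystem.simple (em8 b))
        ((by decide +kernel : ∀ a < 8, a = E8.toTy.σ a) a ha)) E8_good
    (MonoidHom.id W) Function.surjective_id (CoxeterMatrix.E₈.toCoxeterSystem.lift ⟨_, lift8⟩)
    (MonoidHom.range_eq_top.1 (eq_top_iff.2 fun w _ => (closure_le _).2 (by
      rintro _ ⟨i, rfl⟩
      exact ⟨_, CoxeterSystem.lift_apply_simple _ lift8 i⟩) (Gen.mem_closure w))) a8 fun d => by
      change a8 d = _
      rw [a8, sl, apply_ite (CoxeterMatrix.E₈.toCoxeterSystem.lift ⟨_, lift8⟩), map_one, CoxeterSystem.lift_apply_simple]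
      rfl
  rwa [MonoidHom.ker_id, show E8.ν 0 = 696729600 by decide +kernel] at h

end Cfsg.Agent.MO.S.O82
end

-- part: MO/S/O82/Loc
section
/-!
# MO, covers of `Ω₈⁺(2)` and `Sp₆(2)` : tools for the local side (helper65)

* `kk_of_chk` : the local count over the faithful character of a centre of order 2; `sm_of_over` : a subgroup of index 2;
* `eqv`, `hw`, `lbOK`, `genOK`, `kk_pc` : subgroups of `W(E₈)` which are given by words;
* `card_inf_le`, `card_le_orbit`, `not_norm` : bounds for the order of the normaliser.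
-/

set_option autoImplicit false

namespace Cfsg.Agent.MO.S.O82

open Cfsg Subgroup Cfsg.Agent.LV.W Cfsg.Agent.OddHalf.D9.EEight Cfsg.Agent.OddHalf.D9.EEight.Id Cfsg.Agent.MO.T
  Cfsg.Agent.MO.L Cfsg.Agent.MO.S.Pc
open Cfsg.Agent.MK.S.Pc (ev ev_nil ev_cons ev_append V mem_V V_le inR inR_mem)
open Cfsg.Agent.TAB.Eng (frcL frcL_eq frcLZ frcLZ_eq)

section gen

variable {X S : Type} [Group X] [Group S] {p d : ℕ} {Q N : Subgroup X} {q : ℕ → X}

theorem map_mon (φ : X →* S) (r : List ℕ) : mon (fun j => φ (q j)) d r = φ (mon q d r) := by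
  simp only [mon, map_list_prod, List.map_map, Function.comp_def, map_pow]

theorem loc_map (φ : X →* S) (hk : ∀ x ∈ Q, φ x = 1 → x = 1) (h : Loc p d Q q) : Loc p d (Q.map φ) fun j => φ (q j) where
  pg := h.pg.map φ
  mem j hj := mem_map_of_mem φ (h.mem j hj)
  pw j hj := by
    rw [← map_pow, ← map_commutator]
    exact mem_map_of_mem φ (h.pw j hj)
  gen H h1 h2 := map_le_iff_le_comap.2 (h.gen (H.comap φ) h1 (map_le_iff_le_comap.1 (map_commutator Q Q φ ▸ h2)))
  idx := by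
    rw [← h.idx, relIndex, relIndex, ← MK.T.commutator_eq_subgroupOf, ← MK.T.commutator_eq_subgroupOf]
    exact (Nat.card_congr (MulEquiv.ofBijective (φ.subgroupMap Q) ⟨(injective_iff_map_eq_one _).2 fun x hx =>
      Subtype.ext (hk x x.2 (congrArg Subtype.val hx)), φ.subgroupMap_surjective Q⟩).abelianizationCongr.toEquiv).symm

theorem card_map_mul [Finite X] (φ : X →* S) (h : φ.ker ≤ N) : Nat.card φ.ker * Nat.card (N.map φ) = Nat.card N := by
  rw [← relIndex_ker, ← Nat.card_congr (subgroupOfEquivOfLe h).toEquiv, relIndex, card_mul_index]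

/-- **the local count for a double cover** -/
theorem kk_of_chk [Finite X] [Fact p.Prime] (hp : p ≠ 2) (h2 : Nat.card (center X) = 2) (h : Loc p d Q q) (hQN : Q ≤ N)
    (hZ : center X ≤ N) (hN : N ≤ normalizer (Q : Set X)) {n : ℕ} (hn : Nat.card N ≤ Nat.card Q * (2 * n)) {g : ℕ → X}
    {Ms : List (List (List ℕ))} (hg : ∀ i < Ms.length, g i ∈ N)
    (hM : ∀ i < Ms.length, Mt d Q q (fun x => g i * x * (g i)⁻¹) (Ms.getD i [])) {Ω : Type} [MulAction X Ω] {e : ℕ}
    {ω : ℕ → Ω} (hω : ∀ k < e, ∀ k' < e, ω k = ω k' → k = k') {σs : List (List ℕ)}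
    (hσ : ∀ i < Ms.length, ∀ k < e, g i • ω k = ω ((σs.getD i []).getD k 0)) {prog prog' : List ℕ} {c c' : ℕ}
    (hc : chkE p d e Ms.length Ms σs (idW Ms.length) (idM d) prog (2 * n) (c' + c) = true)
    (hc' : chkM p d Ms (idM d) prog' n c' = true) {l : X → ℂ} (hl : Fl X l) : kk p N (center X) l = c := by
  let φ := QuotientGroup.mk' (center X)
  have hk : φ.ker = center X := QuotientGroup.ker_mk' _
  have h3 : ∀ x ∈ Q, φ x = 1 → x = 1 := fun x hx h4 => by
    obtain ⟨k, hk⟩ := h.pg ⟨x, hx⟩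
    have h5 : orderOf x ∣ 2 := h2 ▸ Subgroup.orderOf_dvd_natCard _ ((QuotientGroup.eq_one_iff x).1 h4)
    exact orderOf_eq_one_iff.1 (Nat.eq_one_of_dvd_coprimes
      (((Nat.coprime_primes Fact.out Nat.prime_two).2 hp).pow_left k) (orderOf_dvd_of_pow_eq_one (congrArg Subtype.val hk)) h5)
  have h4 := k0_prime (p := p) φ hk (h2 ▸ Nat.prime_two) hZ hl
  rw [(k0_of_chkE h hQN hN hn hg hM hω hσ hc).1, h2, k0_of_chk (loc_map φ h3 h) (map_mono hQN)
    ((map_mono hN).trans (le_normalizer_map φ)) ?_ (fun M hM' => ?_) hc'] at h4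
  · omega
  · have h5 := card_map_mul φ (hk ▸ hZ)
    rw [hk, h2] at h5
    rw [Nat.card_congr (MulEquiv.ofBijective (φ.subgroupMap Q) ⟨(injective_iff_map_eq_one _).2 fun x hx =>
      Subtype.ext (h3 x x.2 (congrArg Subtype.val hx)), φ.subgroupMap_surjective Q⟩).toEquiv, ← h5, mul_left_comm] at hn
    omega
  · obtain ⟨i, hi, rfl⟩ := List.getElem_of_mem hM'
    refine ⟨_, mem_map_of_mem φ (hg i hi), fun j hj => ?_⟩
    have h5 := mem_map_of_mem φ (hM i hi j hj)
    rwa [map_commutator, map_mul, map_inv, map_mul, map_mul, map_inv, ← map_mon, List.getD_eq_getElem _ _ hi] at h5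

/-- **a subgroup of index 2 whose automorphisms are induced by the overgroup** -/
theorem sm_of_over [Finite X] [Fact p.Prime] (hp : p ≠ 2) {K : Subgroup X} (hi : K.index = 2)
    (hc : (center K).map K.subtype = center X) (ha : ∀ α : MulAut K, ∃ w : X, ∀ k : K, (α k : X) = w * k * w⁻¹)
    (P : Sylow p X) (hP : (P : Subgroup X) ≤ K) {g : X} (hg : g ∈ normalizer ((P : Subgroup X) : Set X)) (hK : g ∉ K)
    (h1 : ∀ l, Fl X l → kk p ⊤ (center X) l = kk p (normalizer ((P : Subgroup X) : Set X)) (center X) l)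
    (h2 : ∀ l, Fl X l → kk p K (center X) l = kk p (normalizer ((P : Subgroup X) : Set X) ⊓ K : Subgroup X) (center X) l) :
    Sm p K := by
  have := normal_of_index_eq_two hi
  have hZ : center X ≤ K := hc ▸ map_subtype_le _
  have hz : ∀ U : Subgroup X, ∀ z ∈ center X, ∀ u ∈ U, u * z = z * u := fun _ z hz u _ => mem_center_iff.1 hz u
  have e1 : (normalizer (((P.subtype hP : Sylow p K) : Subgroup K) : Set K)).map K.subtype =
      normalizer ((P : Subgroup X) : Set X) ⊓ K := by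
    rw [Sylow.coe_subtype, ← subgroupOf_normalizer_eq hP, subgroupOf_map_subtype]
  have e2 : (⊤ : Subgroup K).map K.subtype = K := by rw [← MonoidHom.range_eq_map, range_subtype]
  have lift : ∀ l, Fl K l → ∃ l', Fl X l' ∧ ∀ z ∈ center K, l' (K.subtype z) = l z := by
    rintro l ⟨μ, h3, h4⟩
    obtain ⟨l', h5⟩ := exists_lift K.subtype K.subtype_injective l
    let e := (equivMapOfInjective (center K) K.subtype K.subtype_injective).trans (MulEquiv.subgroupCongr hc)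
    refine ⟨l', ⟨μ.comp e.symm.toMonoidHom, h3.comp e.symm.injective, fun z => ?_⟩, fun z _ => h5 z⟩
    obtain ⟨z, rfl⟩ := e.surjective z
    exact (h5 z).trans ((h4 z).trans (by simp only [_root_.MulEquiv.toMonoidHom_eq_coe, _root_.MonoidHom.coe_comp, _root_.MonoidHom.coe_coe, _root_.Function.comp_apply, _root_.MulEquiv.symm_apply_apply]))
  have hN := center_le_normalizer ((P : Subgroup X) : Set X)
  refine sm_of_pair (MulAut.conjNormal g) (fun α _ => ?_) (P.subtype hP) (fun x => (mem_normalizer_iff.1 hg x).symm)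
    (fun l hl => ?_) fun l hl => ?_
  · obtain ⟨w, hw⟩ := ha α
    by_cases h : w ∈ K
    · exact ⟨⟨w, h⟩, Or.inl (MulEquiv.ext fun k => Subtype.ext (hw k))⟩
    · refine ⟨⟨w * g⁻¹, (mul_mem_iff_of_index_two hi).2 (iff_of_false h fun e => hK (inv_mem_iff.1 e))⟩,
        Or.inr (MulEquiv.ext fun k => Subtype.ext ((hw k).trans ?_))⟩
      change _ = w * g⁻¹ * (g * k * g⁻¹) * (w * g⁻¹)⁻¹
      group
  · rw [← fB_one, ← fB_one]
    refine fB_eq_of_fl le_top (center_le_normalizer _) hl fun h => ?_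
    obtain ⟨l', h3, h4⟩ := lift l h
    rw [fB_one, fB_one, kk_eq_map _ K.subtype_injective _ h4, kk_eq_map _ K.subtype_injective _ h4, e1, e2, hc, h2 l' h3]
  · rw [← fB_top]
    refine fB_eq_of_fl le_top (center_le_normalizer _) hl fun h => ?_
    obtain ⟨l', h3, h4⟩ := lift l h
    rw [fB_eq_fx _ K.subtype_injective _ h4 (a := g) fun _ => rfl, fB_eq_fx _ K.subtype_injective _ h4 (a := g) fun _ => rfl,
      e1, e2, hc]
    have h5 := kk_two hp le_top ((relIndex_top_right _).trans hi) (mem_top g) hK (hz _) hZ l'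
    have h6 := kk_two hp (K := normalizer ((P : Subgroup X) : Set X) ⊓ K) inf_le_left (by
      rw [inf_relIndex_left]
      exact ((Nat.dvd_prime Nat.prime_two).1 (hi ▸ relIndex_dvd_index_of_normal K _)).resolve_left
        fun e => hK (relIndex_eq_one.1 e hg)) hg (fun e => hK e.2) (hz _) (le_inf hN hZ) l'
    rw [h1 l' h3, h2 l' h3] at h5
    omega

theorem card_inf_le [Finite X] [hp : Fact p.Prime] (P : Sylow p X) {K : Subgroup X} (hK : (P : Subgroup X) ≤ K) {a : X}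
    (ha : a ∈ K) (hn : a ∉ normalizer ((P : Subgroup X) : Set X)) :
    (p + 1) * Nat.card (normalizer ((P : Subgroup X) : Set X) ⊓ K : Subgroup X) ≤ Nat.card K := by
  have h2 : ((normalizer ((P : Subgroup X) : Set X)).subgroupOf K).index ≡ 1 [MOD p] := by
    have h2 := card_sylow_modEq_one p K
    rw [(P.subtype hK).card_eq_index_normalizer] at h2
    rwa [subgroupOf_normalizer_eq hK]
  rw [← ((normalizer ((P : Subgroup X) : Set X)).subgroupOf K).card_mul_index, ← subgroupOf_map_subtype,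
    card_map_of_injective K.subtype_injective, mul_comm]
  refine Nat.mul_le_mul_left _ ?_
  have h3 : ((normalizer ((P : Subgroup X) : Set X)).subgroupOf K).index ≠ 1 := fun e => hn (relIndex_eq_one.1 e ha)
  have h4 : ((normalizer ((P : Subgroup X) : Set X)).subgroupOf K).index ≠ 0 := index_ne_zero_of_finite
  have h5 := Nat.le_of_dvd (by omega) ((Nat.modEq_iff_dvd' (by omega)).1 h2.symm)
  omega

theorem card_le_orbit [Finite X] (N : Subgroup X) (a : X) {ι : Type} (s : Finset ι) (f : ι → X)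
    (h : ∀ g ∈ N, ∃ i ∈ s, g * a * g⁻¹ = f i) :
    Nat.card N ≤ s.card * Nat.card (N ⊓ centralizer {a} : Subgroup X) := by
  let _ : MulAction N X := MulAction.compHom X (MulAut.conj.comp N.subtype)
  have h1 : MulAction.stabilizer N a = (centralizer {a}).subgroupOf N := by
    ext g
    rw [mem_subgroupOf, mem_centralizer_singleton_iff, ← mul_inv_eq_iff_eq_mul]
    rfl
  rw [← (MulAction.stabilizer N a).card_mul_index, MulAction.index_stabilizer, h1, inf_comm, ← subgroupOf_map_subtype,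
    card_map_of_injective N.subtype_injective, mul_comm, ← Set.ncard_coe_finset]
  refine Nat.mul_le_mul_right _ ((Set.ncard_le_ncard ?_ (s.finite_toSet.image f)).trans (Set.ncard_image_le s.finite_toSet))
  rintro _ ⟨g, rfl⟩
  obtain ⟨i, hi, e⟩ := h g g.2
  exact ⟨i, hi, e.symm⟩

theorem card_inf_two [Finite X] {K : Subgroup X} (hi : K.index = 2) {g : X} (hg : g ∈ N) (hK : g ∉ K) :
    2 * Nat.card (N ⊓ K : Subgroup X) = Nat.card N := by
  have := normal_of_index_eq_two hi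
  rw [← (K.subgroupOf N).card_mul_index, inf_comm, ← subgroupOf_map_subtype, card_map_of_injective N.subtype_injective,
    mul_comm]
  exact congrArg _ (((Nat.dvd_prime Nat.prime_two).1 (hi ▸ relIndex_dvd_index_of_normal K _)).resolve_left
    fun e => hK (relIndex_eq_one.1 e hg)).symm

end gen

/-! ### words -/

/-- the image of a vector -/
noncomputable def apw (L : List (List (List ℤ))) (w : List ℕ) (v : List ℤ) : List ℤ :=
  List.rec v (fun a _ ih => frcLZ ih fun u => comb u (nth oneL L a)) w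

/-- the matrix of a word -/
noncomputable def evM (L : List (List (List ℤ))) (w : List ℕ) : List (List ℤ) :=
  List.rec oneL (fun a _ ih => frcM ih fun P => mulL (nth oneL L a) P) w

def rhoL : List ℤ := [46, 68, 91, 135, 110, 84, 57, 29]

/-- the test for equality -/
noncomputable def eqv (L : List (List (List ℤ))) (v w : List ℕ) : Bool := eqL (apw L v rhoL) (apw L w rhoL)

/-- a number which depends on the vector only -/
def hs (u : List ℤ) : ℕ := (sumLt 8 (fun i => nth 0 u i * 1000 ^ i) + 1000 ^ 9).toNat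

theorem hs_congr {u v : List ℤ} (h : vec u = vec v) : hs u = hs v := by
  rw [hs, hs, sumLt_eq, sumLt_eq, Finset.sum_congr rfl fun i hi => by
    rw [show nth 0 u i = nth 0 v i from congrFun h ⟨i, Finset.mem_range.1 hi⟩]]

/-- a number which depends on the value of the word only -/
noncomputable def hw (L : List (List (List ℤ))) (w : List ℕ) : ℕ := hs (apw L w rhoL)

/-- the normal form with the number `k` -/
def nfw (p n k : ℕ) : List ℕ := pwd ((List.range n).map fun i => k / p ^ i % p)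

/-- the test for membership -/
noncomputable def Q5.nm (a : ℕ) (l : List ℕ) : Bool :=
  List.rec true (fun b _ r => Bool.rec (motive := fun _ => Bool) r false (Nat.beq a b)) l

theorem Q5.nm_ok {a : ℕ} {l : List ℕ} (h : Q5.nm a l = true) : a ∉ l := by
  induction l with
  | nil => exact List.not_mem_nil
  | cons b l ih =>
    change Bool.rec (motive := fun _ => Bool) (Q5.nm a l) false (Nat.beq a b) = true at h
    cases e : Nat.beq a b <;> rw [e] at h
    · exact fun c => (List.mem_cons.1 c).elim (Nat.ne_of_beq_eq_false e) (ih h)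
    · exact absurd h Bool.false_ne_true

/-- the test for repetitions -/
noncomputable def Q5.nd (l : List ℕ) : Bool := List.rec true (fun a l r => Q5.nm a l && r) l

theorem Q5.nd_ok {l : List ℕ} (h : Q5.nd l = true) : l.Nodup := by
  induction l with
  | nil => exact List.nodup_nil
  | cons a l ih => exact List.nodup_cons.2 ((Bool.and_eq_true_iff.1 h).imp Q5.nm_ok ih)

/-- the normal forms are different -/
noncomputable def lbOK (L : List (List (List ℤ))) (p n : ℕ) : Bool :=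
  frcN L fun L => frcL ((List.range (p ^ n)).map fun k => frcL (nfw p n k) (hw L)) Q5.nd

/-- the words `gs` normalise the group and permute the vectors `O` -/
noncomputable def genOK (L : List (List (List ℤ))) (n : ℕ) (gs : List (List ℕ)) (RR : List (List (List ℕ)))
    (O : List (List ℤ)) (σs : List (List ℕ)) : Bool :=
  frcN L fun L => frcM O fun O => decide (O.map hs).Nodup && allLt RR.length fun i =>
    nrm (eqv L) n (gs.getD i []) (RR.getD i []) &&
      allLt O.length fun k => eqL (apw L (gs.getD i []) (nth [] O k)) (nth [] O ((σs.getD i []).getD k 0))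

/-- `a` does not normalise the tail from `m` on -/
noncomputable def nnOK (L : List (List (List ℤ))) (n m : ℕ) (a a' x z : List ℕ) : Bool :=
  eqv L (a ++ a') [] && inR m n x && (allLt n fun j => Nat.blt j m || eqv L (j :: z) (z ++ [j])) &&
    !(Nat.beq (hw L (a ++ x ++ a' ++ z)) (hw L (z ++ (a ++ x ++ a'))))

section words

variable {Y : Type} [Group Y] {ρ : Y →* Matrix (Fin 8) (Fin 8) ℤ} {y : ℕ → Y} {L : List (List (List ℤ))}

theorem Lt.apw (h : Lt ρ y L) (v : List ℤ) (w : List ℕ) : vec (apw L w v) = (ρ (ev y w)).mulVec (vec v) := by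
  induction w with
  | nil => rw [ev_nil, map_one, Matrix.one_mulVec]; rfl
  | cons a w ih =>
    rw [show O82.apw L (a :: w) v = _ from frcLZ_eq (O82.apw L w v) fun u => comb u (nth oneL L a), vec_comb (h a).1, ih,
      ← (h a).2, ev_cons, map_mul, Matrix.mulVec_mulVec]

theorem Lt.evM (h : Lt ρ y L) (w : List ℕ) : Rep ρ (ev y w) (evM L w) := by
  induction w with
  | nil => exact Rep.one
  | cons a w ih =>
    rw [show O82.evM L (a :: w) = _ from frcM_eq (O82.evM L w) fun P => mulL (nth oneL L a) P, ev_cons]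
    exact (h a).mul ih

theorem Lt.hw (h : Lt ρ y L) {v w : List ℕ} (e : ev y v = ev y w) : hw L v = hw L w :=
  hs_congr (by rw [h.apw, h.apw, e])

theorem Lt.nf [Finite Y] (h : Lt ρ y L) {p n : ℕ} (hc : lbOK L p n = true) : p ^ n ≤ Nat.card (V y n 0) ∧
    (Nat.card (V y n 0) = p ^ n → ∀ x ∈ V y n 0, ∃ k < p ^ n, x = ev y (nfw p n k)) := by
  rw [lbOK, frcN_eq, frcL_eq] at hc
  replace hc := Q5.nd_ok hc
  simp only [frcL_eq] at hc
  rw [List.nodup_map_iff_inj_on List.nodup_range] at hc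
  let f : Fin (p ^ n) → V y n 0 := fun k => ⟨ev y (nfw p n k), pwd_mem (by simp)⟩
  have hf : Function.Injective f := fun a b e =>
    Fin.ext (hc _ (List.mem_range.2 a.2) _ (List.mem_range.2 b.2) (h.hw (congrArg Subtype.val e)))
  refine ⟨by simpa only [_root_.Nat.card_eq_fintype_card, _root_.Fintype.card_fin] using Nat.card_le_card_of_injective f hf, fun e x hx => ?_⟩
  obtain ⟨k, hk⟩ := ((Nat.bijective_iff_injective_and_card f).2 ⟨hf, by rw [e, Nat.card_fin]⟩).2 ⟨x, hx⟩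
  exact ⟨k, k.2, (congrArg Subtype.val hk).symm⟩

variable {α : Y →* W} (hα : Function.Injective α) (h : Lt (ρW.comp α) y L)
include hα h

theorem eqv_sound (v w : List ℕ) (e : eqv L v w = true) : ev y v = ev y w := by
  have h1 := congrArg vec (eqL_iff.1 e)
  rw [h.apw, h.apw, show vec rhoL = Gen.rho by decide] at h1
  refine hα (inv_mul_eq_one.1 (Gen.eq_one_of_rho ?_)).symm
  rw [ap_mul, show ap (α (ev y v)) Gen.rho = ap (α (ev y w)) Gen.rho from h1, ap_inv_ap]

theorem not_norm {n m : ℕ} {a a' x z : List ℕ} (hc : nnOK L n m a a' x z = true) :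
    ev y a ∉ normalizer (V y n m : Set Y) := fun ha => by
  simp only [nnOK, Bool.and_eq_true, allLt_iff, Bool.or_eq_true, Nat.blt_eq, Bool.not_eq_true'] at hc
  obtain ⟨⟨⟨h1, h2⟩, h3⟩, h4⟩ := hc
  have h5 := eqv_sound hα h _ _ h1
  rw [ev_append, ev_nil] at h5
  have h6 : V y n m ≤ centralizer {ev y z} := V_le fun j h1 h2 => mem_centralizer_singleton_iff.2 (by
    have h7 := eqv_sound hα h _ _ ((h3 j h2).resolve_left (not_lt.2 h1))
    rwa [ev_cons, ev_append, ev_cons, ev_nil, mul_one] at h7)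
  have h7 := mem_centralizer_singleton_iff.1 (h6 ((mem_normalizer_iff.1 ha _).1 (inR_mem h2)))
  rw [← eq_inv_of_mul_eq_one_right h5, ← ev_append, ← ev_append, ← ev_append, ← ev_append] at h7
  rw [h.hw h7, Nat.beq_refl] at h4
  exact Bool.noConfusion h4

theorem gen_norm [Finite Y] {n : ℕ} {gs : List (List ℕ)} {RR : List (List (List ℕ))} {O : List (List ℤ)}
    {σs : List (List ℕ)} (hg : genOK L n gs RR O σs = true) {i : ℕ} (hi : i < RR.length) :
    ev y (gs.getD i []) ∈ normalizer (V y n 0 : Set Y) := by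
  simp only [genOK, frcN_eq, frcM_eq, Bool.and_eq_true, allLt_iff] at hg
  exact nrm_mem (eqv_sound hα h) (hg.2 i hi).1

/-- **the local count** -/
theorem kk_pc [Finite Y] {p n m : ℕ} [Fact p.Prime] (hp : p ≠ 2) (h2 : Nat.card (center Y) = 2) {c : Cert}
    (h1 : Pc.chk (eqv L) p n m c = true) (hx : expC n m c = true) (hb : lbOK L p n = true) {N : Subgroup Y}
    (hQ : V y n 0 ≤ N) (hZ : center Y ≤ N) (hN : N ≤ normalizer (V y n 0 : Set Y)) {k : ℕ}
    (hn : Nat.card N ≤ p ^ n * (2 * k)) {gs : List (List ℕ)} {RR : List (List (List ℕ))} {O : List (List ℤ)}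
    {σs : List (List ℕ)} (hg : genOK L n gs RR O σs = true) (hm : ∀ i < RR.length, ev y (gs.getD i []) ∈ N)
    {prog prog' : List ℕ} {r r' : ℕ}
    (hc : chkE p m O.length RR.length RR σs (idW RR.length) (idM m) prog (2 * k) (r' + r) = true)
    (hc' : chkM p m RR (idM m) prog' k r' = true) {l : Y → ℂ} (hl : Fl Y l) : kk p N (center Y) l = r := by
  simp only [genOK, frcN_eq, frcM_eq, Bool.and_eq_true, allLt_iff, decide_eq_true_eq, eqL_iff] at hg
  have he := eqv_sound hα h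
  let _ : MulAction Y (Fin 8 → ℤ) :=
    { smul := fun g v => (ρW.comp α g).mulVec v
      one_smul := fun v => by
        change (ρW.comp α 1).mulVec v = v
        rw [map_one, Matrix.one_mulVec]
      mul_smul := fun a b v => by
        change (ρW.comp α (a * b)).mulVec v = (ρW.comp α a).mulVec ((ρW.comp α b).mulVec v)
        rw [map_mul, Matrix.mulVec_mulVec] }
  refine kk_of_chk hp h2 (loc_of_chk he h1 hx (h.nf hb).1) hQ hZ hN (((pc_of_chk he h1).card_zero (h.nf hb).1).symm ▸ hn) hm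
    (fun i hi => mt_of_nrm he h1 (hg.2 i hi).1) (ω := fun k => vec (nth [] O k)) (fun a ha b hb e => ?_)
    (fun i hi k hk => (h.apw _ _).symm.trans (congrArg vec ((hg.2 i hi).2 k hk))) hc hc' hl
  have h3 := hs_congr e
  rw [nth_eq, nth_eq, List.getD_eq_getElem _ _ ha, List.getD_eq_getElem _ _ hb] at h3
  exact (hg.1.getElem_inj_iff (hi := by simpa using ha) (hj := by simpa using hb)).1 (by simpa using h3)

end words

end Cfsg.Agent.MO.S.O82
end

private theorem dce_919cdf680b38 : _root_.True := by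
  try have : _root_.True := by simp only [_root_.Cfsg.Agent.MO.S.O82.sW.eq_1]
  try have : _root_.True := by simp only [_root_.Cfsg.Agent.MO.S.O82.lbOK.eq_1]
  try have : _root_.True := by simp only [_root_.Cfsg.Agent.MO.S.O82.hs.eq_1]
  try have : _root_.True := by simp only [_root_.Cfsg.Agent.OddHalf.D9.EEight.K₀.eq_1]
  try have : _root_.True := by simp only [_root_.Cfsg.Agent.MO.S.O82.a8.eq_1]
  try have : _root_.True := by simp only [_root_.Cfsg.Agent.MO.L.chkE.eq_1]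
  try have : _root_.True := by simp only [_root_.Cfsg.Agent.MO.L.cls.eq_1]
  try have : _root_.True := by simp only [_root_.Cfsg.Agent.MO.L.idW.eq_1]
  try have : _root_.True := by simp only [_root_.Cfsg.Agent.MO.S.O82.nnOK.eq_1]
  try have : _root_.True := by simp only [_root_.Cfsg.Agent.MO.S.O82.genOK.eq_1]
  exact _root_.True.intro
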