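import Cfsg.Agent.MQ.S.E62Y.Dat
import Cfsg.Agent.MQ.S.O82.Loc
import Cfsg.Agent.MQ.S.M35.Loc
import Cfsg.Agent.OddHalf.D9.EEight.RowFinal
import Cfsg.Agent.H277.DM.USix_m3
import Cfsg.Agent.S0296
import Cfsg.Agent.Lib.ListFast
import Cfsg.Agent.Prune
set_option linter.all false
prune_inst 0x7f00000000000000000000000000000000000000000000000000000000000000000000000000000000000000000000000000000000000000000000000000000000000000000000000000000000000000003fffffffffffffffffffffffffffbeffbdffffffff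
open scoped Cfsg.Agent.FastGrp

-- part: MO/S/O82/Tab
section
/-!
# MO, the Weyl group of type `E₈` : the table of the faithful characters (helper65, generated by `tools/P3/o82`)
-/

set_option autoImplicit false
set_option maxRecDepth 100000

namespace Cfsg.Agent.MO.S.O82

open Cfsg.Agent.LV.W

def ms8 : List (List ℕ) := [
    [1], [3], [2, 1], [1, 1, 1], [5], [4, 1], [3, 2], [3, 1, 1], [2, 2, 1], [2, 1, 1, 1], [1, 1, 1, 1, 1], [7],
    [6, 1], [5, 2], [5, 1, 1], [4, 3], [4, 2, 1], [4, 1, 1, 1], [3, 3, 1], [3, 2, 2], [3, 2, 1, 1], [2, 2, 2, 1],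
    [2, 2, 1, 1, 1], [7, 1, 1], [6, 2, 1], [6, 1, 1, 1], [5, 3, 1], [5, 2, 2], [5, 2, 1, 1], [5, 1, 1, 1, 1],
    [4, 4, 1], [4, 3, 2], [4, 2, 2, 1], [3, 3, 3], [3, 3, 2, 1], [7, 1, 1, 1, 1], [6, 2, 2, 1], [6, 2, 1, 1, 1],
    [6, 1, 1, 1, 1, 1], [5, 3, 3], [5, 3, 2, 1], [5, 3, 1, 1, 1], [5, 2, 2, 2], [5, 2, 2, 1, 1], [4, 4, 2, 1]]

noncomputable def C8 : List (List ℤ) := (List.map (unz 4) [
    0xdd434a0185aae960bc9e91adb5392eb650082f01e20088000022ba84560ba5088440022,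
    0x8a4a1e8119ac962be96988103525a5166a018356c0110650c228b2a2c60bce6a110882200,
    0x328ac54508a0ba9c9c98969142d6949e92500a5ac68802214c22109a81694945088320000,
    0xd142aa013592cd752d390266c4b4a2cd40386d5a2000110006545082da55400220000,
    0x22e18356886edb372d3b757cb15e7f2fd766d58024222e00022879441945c346c6faf6d108822000,
    0xe578af3806c7cef99e43f4deb052c72df3697d4f945079844c514638f1c63965a5e2b6fa362700000000,
    0xa741c22bc413de73d37edaf6e1a1c045cd9b5279ef0c34231e23108842044194e7080f7b4b700000000,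
    0x117a47102282c568b45c4b48f5653122b0500bda26880441cc0031cd422b498500000000,
    0x115205a0465312532c8024b0e349280165bac40001280018e903132f400000000,
    0xca06200524a52450f20f4ca1ca52006578a0000148001ce5029c3a400000000,
    0x6186401943ca318831c5187900524a00000440022861147200000000,
    0x38b068c01b366d9350dc5eac6dbf57cbab68c1141c4140044000011066c12b717e6884400220,
    0x65ab45c3441c36add34cde5eae57dfebe5cdb6608a36242002214c221081db042d03427883200000,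
    0x53ece1adc22e2fc1fbbd37eda2386044078afc1f6bc38ca263f21188420441907870a4ffb77700000000,
    0x451de311e2088f15e63ecd1342d1eef0b48d15e23846d62a200220e60018c23b86ed5352700000000,
    0x292768e1631a1ad699a06a2d561ead15c2d2d6364175f13844000000014b072d89c500000000,
    0x44228a31840a4948ca73a4084a71441ce9000000000022189091500000000,
    0xf0c19b0072dc376d4b7d6268ae3c0d0b74dbb004a445c000000000078c1837d77600000000,
    0x452b04cc1148d1b4cdc5b2dd421bd56cb2b4cd10caf69c0000000002560bad972600000000,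
    0x8c470fd8020bc2786f7b46d6306e791a9688f0dc02b229e0000000000223878d1b45700000000,
    0x1b582a600b9ad6b9a26d2e5424be574b6b5cc01c5fa380000000005ac15b696c600000000,
    0x2000000000000000000011000000000000c82200000000, 0x400000000000000000000000000000000220000000000,
    0x3d3076c01eb78ddb56df589a1e8789a16f1bb608cc44ac000044001907cc16342d15c02200000,
    0x45650bac43eb134d66ba948163624a44d0b04511e2b80004a000630928796d21600000000,
    0x30814c02316a6518a1d24518a201c968000148001cc390039f300000000,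
    0x8b160c9a20c9b16d1a26c2e572a6f95d2ded834420e3c3800000000062c1f589ba600000000,
    0x2319c20b804578cf05f76fad0d4fd3c4d3b44786e016515b0000000000131c3a6ead1700000000,
    0xd570a4e0149e8bcc78cf835ed892f17b60d45e93806ac6c4000000000055708af0368700000000,
    0xc143d003d20ba969ce123c584e705f400a1a760000000000e40c4a73500000000,
    0x19443180430882288538c518a20e7080000000001108714300000000,
    0x22e1837600edb46dda36fac0c171e06faf0dbb004c443c000000000070c1237d7b600000000,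
    0xe204a005a625a73a708125c7cf12d0034b0b000000000062052539400000000,
    0x32b048c013346d336968b550f5a6b6595a6600bef71c0000000002560dad168600000000,
    0x188220118a318804388228806388000000000441147200000000,
    0x79842004273a4c70f28ea650f9c2004d68a000110008825029e3a400000000,
    0xd1426a0195d2e579da6263e2e25a6972a01c372c0000000001050e4f4f400000000,
    0x1f408280616eb85c709cf9d579c25d70a017b60c0000000001a81a905e400000000,
    0x61864014f1d38c628b1c51c74c0312d000000000021843cb200000000,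
    0x31b044c013346d237168b550f5a6b658da4600bef71c0000000002360ead168600000000,
    0x6208804628d3ca20848718a201494c000000000220c795300000000,
    0x38816801698969ce9e30a2e3a7896801e5ea80000000006204253d400000000,
    0xe30a6014f1d3ca31052451c74c039350000000000318438f300000000,
    0x3cc21002139c26387906a650f9c2004d68a0000000001cc29c3a400000000,
    0xc422008a314510065108c4014e18000000000442314300000000])

noncomputable def T8 : List (List ℤ) := (List.map (unz 4) [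
    0x3800eaf03abc0eaf03a370e8dc3a0d0e8343a000e8003b481ba40dca86e5436bc1b5e0d9606cb037f032bc32bc32bc32bc32a03288328833f05fe0bd217a42e305c60be02b80ae02b20ac82a813409e08e08e0fc1e0b05,
    0x18be8230abceaf4ad1ce927ffa80174fd541528ee525c5f518577c78405775a39d24d7941af9d84fde7f13f71f91879c44efc070477c7847f7808defc1f6bc5b4c4,
    0x3fe2869ad0d4314312b12b10110116969451451b9f73f87f0f6717d18b62d7d1dde8a28a2d22d22a6a9a52252206e1a06c9b2688f11fe6f9acb65a4a4,
    0x19f89f89f8f0fe1e86a18020681aa22a227bcf79f89f8c0fe1fc3f87f0f01ef6bdb06c1a121383f0780ffb407a0f41e0681b06c1b9f38484,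
    0x1000a1a76a1a760081beb09cc0000276a1a76a183eb035ed837384bdb0600000fac0df581b9c27384,
    0x34304ed258af57cb037d6d3122b25a49400094eaf969024b150092c57eb0373084eaf979c2556cb1469e3,
    0x7d020bdb78da366c01037d6d31306bdb06bd826b6989450c1af6c2dd66b45bae17ea1037a41403d20b8969943,
    0x4140039f300e7ce929252500003100002d228b1e39494a4a4cb2c8029293939228b1e3,
    0x70b698592c971e3008da368ac564b25badd6d24bd5eac970b158ae26263c7898817508ac5713124b25a74f1e3,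
    0x7eb037d70b85848400fafd6eb75bdaf681a0681b9f3e7ce03e0d834160b4350d058284070f4f481a0682c170b858484,
    0x841432ca1c30000870f9f300f4cb2cb20e7cf9f3870e121000212100212132ca1c3,
    0x30994263c7a9a8019654e9c630909898f1e3c7ce9d3b4b48a2870e0b09058a2cb2c78e318a2,
    0xf487ce18062627a7a5a5a005168b89881ce0b05e7850000b4b4870f284ca8b45cb28484870e1c3, 0x0, 0x0,
    0x390430087900650c000000218064000010f2008619650c0328601943,
    0x1000ca1e50c00021e5ce10003287943084e6010f20000084e601ce121e5943,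
    0x1000a78e9e30000c74f1d3000c74f1d30a78c029e300000c74ed3129e3a78e9e3,
    0x100087900650e3145100000000008c58e9c628c59043008a318a28c62,
    0xf3084c74e5290021e54f1e3a6001163a710c74c025290021039c62008c58e9c62,
    0x60a1e969890f20000b4c400f4828625166b6800109cf287ce10000000003287943, 0x0,
    0x4002314620084e71469e30008a31442310046200000a78e1e518a31462, 0x0,
    0xf3084000084e600010f2b4c40c8021800000043cb98420043cb28794300,
    0xc2073a78e9250032878e9d3c60011a78e20a78c029250039842451008a34f1c51,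
    0x60a1e9e376d9b68c01f581b12d2f6c1af6c1828b8969350bdb06bae168b35c2dd6060fac17d0020be969890f2,
    0x400000022880231008c400000228800000000228a3100008a2, 0x4000000002318a20000860001946314514518e50f2008c628a318a2,
    0x1000870f2c800021c300000cb2cb200000cb200000000000870e1c3,
    0x187ce180659004386019650e1800004200004387965973ca1c3870c032ca1c3,
    0x6394402288021c300008a2ca1c630e18046318c6210c32cb2ca1c3008a2,
    0x65187100008a200008a20008c387100000008c62ca2cb28a28a28c61c3,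
    0x1c7698c031e300000000a74ed031e30b400a74f1e3a74c31000313100313131e3, 0x0, 0x0, 0x0,
    0x864118c51000045145100438c63108a2cb28a2870c00231008c6318a2,
    0x800000000451462000190000438a28c6318a287943008a28c628a31,
    0x430008c402318c628800000000022880228a318b28802318a28a200, 0x0,
    0x1e70f9d3a7c9c8010e1e3c7145cf9da53a74e9c263c7898918e597a73f48c61c3a74e28a31,
    0x79e5cf1e38a200870e9d3c78e121328c631e74e9c38749490e187308a2cb28c71e38a2, 0x0,
    0x84308a28c40002318c40328a28a208c61c38c72c80022880228a28a31, 0x0,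
    0x87a04387964000196509080105870e1c3084848484cb2e7cc0039f300e7ce1c3cb2,
    0x1fb5961d9403cbe5f4f4c2e1403d3d29d391b9e572bced0024b25c78f535206ca068484cb28484870e31,
    0x394264010e18065900438796400001cc00032ca1c387090f2cb2c8021c3cb2,
    0x6eb89758ac569d30091a4692c962b15c2e17122be5f2c56eb2592da5a53a76968185092c96d2d22b15c78e9d3,
    0x1a08a08a08eefdde769d803ebf5a78a78a0f41e822822fbf77eefddfbbfed8360d7b5edcf9ef7deffb407fda7bcf7fafd6f6bda12139f3,
    0x0, 0x40000000023145100000000008a318a31462000008a314631462,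
    0x10008c5188000228c510008c518823100451000008c40114628c62, 0x0,
    0xc41100008c40001144002201100000004518822011463146200, 0x200000011440231004510000008c4000000001146288000462,
    0x31044022880000000462008c4000118a31451000000000879462, 0x400228804628a3188000000000228804518a3108802314518c5943,
    0x0, 0x200000011880228804620000008a200000000118a310000451,
    0x1000ca18043ca28c6200000000008a34f1c518a30c32008c514631451,
    0xc41100c74e0be9698801e905c74c26b8e9d140024b158ac9793521039da627a4161e5ce129e3,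
    0xc20730000e7080001943c4b40860190000000650e103980650e1e50f200,
    0x31088023100000000451008a2000114628c62000000000ca1c51, 0xc42200008a200011880022008800000046288440118a28c5100,
    0xc422008a2010f20000a78c32a78e180063a71469e3840e70f20087900462,
    0x30c3200ca18043c80000003200860000194300c821c3c8021e4010f2,
    0xc411008c4019430000c74c21e3a7900053c718b1d3e610994300ca180451,
    0x10008a31440002314620008a314422880462000008a20118a31451,
    0x100087943c8000328709cc0021e50f20e7080194300000e7080109cf2870f2, 0x0,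
    0x400228c5100e70918b1d30008c51882288045100000c74f28714628c51,
    0x400000000228c6200000000008c514628c51000008c518a28c51, 0x400231004518c5144000000000231004628c510440228c628a30f2,
    0x33b050d1592f97abf581b12d24b1594a4000a4f2f565022b25008ac9606fac2073f2f56139d96ab18b1d3, 0x0,
    0x7d020b89699430000c4b40082fa05a4d68b88001ce121e509cc0000000021e50f2,
    0x1000c74f1d30000a78e9e3000a78e9e30c74c031d300000a78f12d31d3c74f1d3,
    0x10009da869da8600fac0dce1000002869da869d8206fae0d7b4273c1af60000081beb037d6139c273,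
    0xc42200a78fd20b89680105f4a78c28b4f1cd40022b2592c5753939842625a417d328709cf1d3,
    0x18c2822fabd2af3ad24e8e6005fff550553f5292e51dc61517d78477c05795a49d1cd7741b09d7cfe27ef3f91f71889c3cf0406fc78477c4047f7e0fbdf8bb5c4b4,
    0x2200000011440000000110000000462000118c4000228a28a31, 0x0, 0x0,
    0x4400000011880000000440000002288000228a200008c6318a2, 0x0, 0x100000008c40228802288000002310000000008c6288000231,
    0x0, 0x8c51440001188000462001145144000000114518c6318c6318a28a2,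
    0x860016968010908000000010800018969690e1800043870c00032ca12121c3,
    0x1900045100451451462000000000118804631451871008a28c63100,
    0x1ca1e4010e180659000043870e132ca13200cb2cb2cb20c821c3870f2c8021c3, 0x0,
    0x11463100008a200008a20008c63100000008c628a28a28a28a28c631,
    0x87165100004620001188004596510000000451461c61c38c6318a2cb2,
    0x18a1c401188065900004630f28a2cb2008a28a28a20c821c3870f2c80231,
    0x1000cb2870c00032c8000021c3870c000021c300000000000cb2cb2,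
    0x1e800109080109092929494800016800018918d3a7494929290e1c3009494d4d48c69d3,
    0xfaced9113b00777eeffdffbf87f0e01411411ddfbbc87a0f3b4ed41fc3804778efe1fc3ced3b7d6c3fd686a1a86a1b9f381a068484,
    0x80f55caaa01d5eac160b75ba804160b8f1c6d09a5d2c262004562b4e9f2727d61fd79f3870f9f3cb28a2,
    0x105ca13200b4b482c171310026b35b4b4084f4f484ba8000626265943e70e6b35870f9f3cb2cb2,
    0x61e50c032c8021c30000cb2cb9c387ce18043870e1c38610c32cb2ca1c300cb2, 0x0,
    0x1a7894c029d300000000c78f1029d30c400c78e9d3c78c2d0002d2d002d2d29d3,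
    0x6121c253a7188065963c74e9f3e70e28a28a131e3cb29494cb208408c61c38a2a74e31,
    0x1900062620073e600000001cc0002d313132c800032cb20000870f9f3cb2,
    0x402676a2ced4514512d12d1fdffbe26250c50c6d7dafddfbbda45ec64d935ec787a18a18b38b38a5a96938938faeedf5c5b1686f0dfd6f5aab559494,
    0x0, 0x606fac0d75baf3e6010340d85c2e0d837d7ebf584848484fdaf6bdbd3d2769dbd3d03f6082c17ebf5f4f4badd79f3,
    0x40d4363c50c01e1fc3c04404777eee013f13f1e1fc3c779ef4350d3dfbb8048790fddfbbd0d4340d5de069da769da768484fafd79f3,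
    0x37ffeaeffabbfeaeffa36fe8dbfa0cfe833fbfffbfffdd1fee8ff729fb94fdaefed77f657fb2bfdfbfcaefcaefcaefcaefca7fca1fca1fcfbf7f7ef47de8fb8bf717ef7fadfeb7fac7eb1fa9fccfe77e37e37bef7f4f4])

def b8 : List ℤ := [
    8, 8, 56, 56, 112, 112, 160, 160, 400, 400, 448, 448, 448, 560, 560, 840, 840, 1008, 1008, 1296, 1296, 1344,
    1400, 1400, 1400, 1400, 2016, 2400, 2400, 2800, 2800, 3240, 3240, 3360, 3360, 4096, 4096, 4200, 4200, 4536, 4536,
    5600, 5600, 5600, 7168]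

def d8 : List ℤ := [-1, -1, -1, -1, -1, -1, -1, -1]

private noncomputable def _root_.Cfsg.Agent.LsF.fe678a6_0 : {f // @Cfsg.Agent.LV.W.allLt = f} := ⟨_, by first | (delta Cfsg.Agent.LV.W.allLt; rewrite [Cfsg.Agent.LsF.and_eq]; exact rfl) | exact rfl⟩
private noncomputable def _root_.Cfsg.Agent.LsF.fe678a6_1 : {f // @Cfsg.Agent.MO.S.O82.wtd = f} := ⟨_, by first | (delta Cfsg.Agent.MO.S.O82.wtd; rewrite [Cfsg.Agent.LsF.imul_eq]; exact rfl) | exact rfl⟩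
private noncomputable def _root_.Cfsg.Agent.LsF.fe678a6_2 : {f // @Cfsg.Agent.MO.S.O82.Q5.tl = f} := ⟨_, by first | (delta Cfsg.Agent.MO.S.O82.Q5.tl; rewrite [Cfsg.Agent.LsF.map_eq, Cfsg.Agent.LsF.tail_eq]; exact rfl) | exact rfl⟩
private noncomputable def _root_.Cfsg.Agent.LsF.fe678a6_3 : {f // @Cfsg.Agent.LV.W.sumAbs = f} := ⟨_, by first | (delta Cfsg.Agent.LV.W.sumAbs; rewrite [Cfsg.Agent.LsF.natAbs_eq]; exact rfl) | exact rfl⟩
private noncomputable def _root_.Cfsg.Agent.LsF.fe678a6_4 : {f // @Cfsg.Agent.MO.S.O82.Q5.mx = f} := ⟨_, by first | (delta Cfsg.Agent.MO.S.O82.Q5.mx; rewrite [Cfsg.Agent.LsF.fe678a6_3.2, Cfsg.Agent.LsF.nmax_pat]; exact rfl) | exact rfl⟩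
private noncomputable def _root_.Cfsg.Agent.LsF.fe678a6_5 : {f // @Cfsg.Agent.MO.S.O82.Q5.dot = f} := ⟨_, by first | (delta Cfsg.Agent.MO.S.O82.Q5.dot; rewrite [Cfsg.Agent.LsF.iadd_eq, Cfsg.Agent.LsF.imul_eq]; exact rfl) | exact rfl⟩
private noncomputable def _root_.Cfsg.Agent.LsF.fe678a6_6 : {f // @Cfsg.Agent.LV.W.pkz = f} := ⟨_, by first | (delta Cfsg.Agent.LV.W.pkz; rewrite [Cfsg.Agent.LsF.iadd_pat, Cfsg.Agent.LsF.imul_pat]; exact rfl) | exact rfl⟩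
private noncomputable def _root_.Cfsg.Agent.LsF.fe678a6_7 : {f // @Cfsg.Agent.MO.S.O82.Q5.cOK = f} := ⟨_, by first | (delta Cfsg.Agent.MO.S.O82.Q5.cOK; rewrite [Cfsg.Agent.LsF.fe678a6_3.2, Cfsg.Agent.LsF.fe678a6_4.2, Cfsg.Agent.LsF.fe678a6_5.2, Cfsg.Agent.LsF.fe678a6_6.2, Cfsg.Agent.LsF.and_eq, Cfsg.Agent.LsF.map_eq]; exact rfl) | exact rfl⟩
private noncomputable def _root_.Cfsg.Agent.LsF.fe678a6_8 : {f // @Cfsg.Agent.LV.W.sumLt = f} := ⟨_, by first | (delta Cfsg.Agent.LV.W.sumLt; rewrite [Cfsg.Agent.LsF.iadd_pat]; exact rfl) | exact rfl⟩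
private noncomputable def _root_.Cfsg.Agent.LsF.fe678a6_9 : {f // @Cfsg.Agent.MO.S.O82.gramOK = f} := ⟨_, by first | (delta Cfsg.Agent.MO.S.O82.gramOK; rewrite [Cfsg.Agent.LsF.fe678a6_0.2, Cfsg.Agent.LsF.fe678a6_1.2, Cfsg.Agent.LsF.fe678a6_2.2, Cfsg.Agent.LsF.fe678a6_7.2, Cfsg.Agent.LsF.fe678a6_8.2, Cfsg.Agent.LsF.imul_pat, Cfsg.Agent.LsF.icast_pat, Cfsg.Agent.LsF.and_eq, Cfsg.Agent.LsF.not_eq, Cfsg.Agent.LsF.cond_eq, Cfsg.Agent.LsF.map_eq, Cfsg.Agent.LsF.range_eq, Cfsg.Agent.LsF.length_eq]; exact rfl) | exact rfl⟩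
private noncomputable def _root_.Cfsg.Agent.LsF.fe678a6_10 : {f // @Cfsg.Agent.LV.W.dz = f} := ⟨_, by first | (delta Cfsg.Agent.LV.W.dz; rewrite [Cfsg.Agent.LsF.cond_eq]; exact rfl) | exact rfl⟩
private noncomputable def _root_.Cfsg.Agent.LsF.fe678a6_12 : {f // @Cfsg.Agent.LV.W.unz = f} := ⟨_, by first | (delta Cfsg.Agent.LV.W.unz; rewrite [Cfsg.Agent.LsF.fe678a6_10.2, Cfsg.Agent.LsF.map_eq]; exact rfl) | exact rfl⟩
private noncomputable def _root_.Cfsg.Agent.LsF.fe678a6_13 : {f // @Cfsg.Agent.MO.S.O82.T8 = f} := ⟨_, by first | (delta Cfsg.Agent.MO.S.O82.T8; rewrite [Cfsg.Agent.LsF.fe678a6_12.2, Cfsg.Agent.LsF.map_eq]; exact rfl) | exact rfl⟩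
private noncomputable def _root_.Cfsg.Agent.LsF.fe678a6_14 : {f // @Cfsg.Agent.LV.W.E8 = f} := ⟨_, by first | (delta Cfsg.Agent.LV.W.E8; rewrite [Cfsg.Agent.LsF.fe678a6_12.2, Cfsg.Agent.LsF.ineg_pat, Cfsg.Agent.LsF.map_eq]; exact rfl) | exact rfl⟩
theorem gram8 : gramOK 112 45 T8 E8.nW 696729600 (List.replicate 45 1) b8 696729600 = true := by ((try (rewrite [Cfsg.Agent.LsF.fe678a6_9.2, Cfsg.Agent.LsF.fe678a6_13.2, Cfsg.Agent.LsF.fe678a6_14.2, Cfsg.Agent.LsF.replicate_eq])); decide +kernel)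

private noncomputable def _root_.Cfsg.Agent.LsF.fe678a6_15 : {f // @Int.subNatNat = f} := ⟨_, by first | (delta Int.subNatNat; rewrite [Cfsg.Agent.LsF.nsub_pat]; (try delta Int.negOfNat.match_1); (try delta Nat.casesOn); exact rfl) | exact rfl⟩
private noncomputable def _root_.Cfsg.Agent.LsF.fe678a6_16 : {f // @Cfsg.Agent.MO.S.O82.Q5.unq = f} := ⟨_, by first | (delta Cfsg.Agent.MO.S.O82.Q5.unq; rewrite [Cfsg.Agent.LsF.fe678a6_15.2, Cfsg.Agent.LsF.iadd_eq, Cfsg.Agent.LsF.toNat_eq]; exact rfl) | exact rfl⟩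
private noncomputable def _root_.Cfsg.Agent.LsF.fe678a6_17 : {f // @Cfsg.Agent.MO.S.O82.Q5.wp = f} := ⟨_, by first | (delta Cfsg.Agent.MO.S.O82.Q5.wp; rewrite [Cfsg.Agent.LsF.fe678a6_6.2, Cfsg.Agent.LsF.fe678a6_5.2, Cfsg.Agent.LsF.map_eq]; exact rfl) | exact rfl⟩
private noncomputable def _root_.Cfsg.Agent.LsF.fe678a6_18 : {f // @Cfsg.Agent.MO.S.O82.Q5.mxL = f} := ⟨_, by first | (delta Cfsg.Agent.MO.S.O82.Q5.mxL; rewrite [Cfsg.Agent.LsF.fe678a6_4.2, Cfsg.Agent.LsF.nmax_pat]; exact rfl) | exact rfl⟩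
private noncomputable def _root_.Cfsg.Agent.LsF.fe678a6_19 : {f // @Cfsg.Agent.LV.W.all2 = f} := ⟨_, by first | (delta Cfsg.Agent.LV.W.all2; rewrite [Cfsg.Agent.LsF.and_eq, Cfsg.Agent.LsF.isEmpty_eq]; (try delta List.casesOn); exact rfl) | exact rfl⟩
private noncomputable def _root_.Cfsg.Agent.LsF.fe678a6_20 : {f // @Cfsg.Agent.MO.S.O82.eqL = f} := ⟨_, by first | (delta Cfsg.Agent.MO.S.O82.eqL; rewrite [Cfsg.Agent.LsF.fe678a6_19.2]; exact rfl) | exact rfl⟩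
private noncomputable def _root_.Cfsg.Agent.LsF.fe678a6_21 : {f // @Cfsg.Agent.MO.S.O82.Q5.wOK = f} := ⟨_, by first | (delta Cfsg.Agent.MO.S.O82.Q5.wOK; rewrite [Cfsg.Agent.LsF.fe678a6_18.2, Cfsg.Agent.LsF.fe678a6_4.2, Cfsg.Agent.LsF.fe678a6_20.2, Cfsg.Agent.LsF.fe678a6_17.2, Cfsg.Agent.LsF.fe678a6_6.2, Cfsg.Agent.LsF.and_eq, Cfsg.Agent.LsF.map_eq, Cfsg.Agent.LsF.length_eq]; exact rfl) | exact rfl⟩
private noncomputable def _root_.Cfsg.Agent.LsF.fe678a6_22 : {f // @Cfsg.Agent.MO.S.O82.axp = f} := ⟨_, by first | (delta Cfsg.Agent.MO.S.O82.axp; rewrite [Cfsg.Agent.LsF.iadd_eq, Cfsg.Agent.LsF.imul_eq]; exact rfl) | exact rfl⟩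
private noncomputable def _root_.Cfsg.Agent.LsF.fe678a6_23 : {f // @Cfsg.Agent.MO.S.O82.comb = f} := ⟨_, by first | (delta Cfsg.Agent.MO.S.O82.comb; rewrite [Cfsg.Agent.LsF.fe678a6_22.2]; exact rfl) | exact rfl⟩
private noncomputable def _root_.Cfsg.Agent.LsF.fe678a6_24 : {f // @Cfsg.Agent.MO.S.O82.mulL = f} := ⟨_, by first | (delta Cfsg.Agent.MO.S.O82.mulL; rewrite [Cfsg.Agent.LsF.fe678a6_23.2]; exact rfl) | exact rfl⟩
private noncomputable def _root_.Cfsg.Agent.LsF.fe678a6_25 : {f // @Cfsg.Agent.MO.S.O82.trL = f} := ⟨_, by first | (delta Cfsg.Agent.MO.S.O82.trL; rewrite [Cfsg.Agent.LsF.fe678a6_8.2]; exact rfl) | exact rfl⟩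
private noncomputable def _root_.Cfsg.Agent.LsF.fe678a6_26 : {f // @Cfsg.Agent.MO.S.O82.sg = f} := ⟨_, by first | (delta Cfsg.Agent.MO.S.O82.sg; rewrite [Cfsg.Agent.LsF.imul_eq]; exact rfl) | exact rfl⟩
private noncomputable def _root_.Cfsg.Agent.LsF.fe678a6_27 : {f // @Cfsg.Agent.MO.S.O82.moZ = f} := ⟨_, by first | (delta Cfsg.Agent.MO.S.O82.moZ; rewrite [Cfsg.Agent.LsF.imul_eq]; exact rfl) | exact rfl⟩
private noncomputable def _root_.Cfsg.Agent.LsF.fe678a6_28 : {f // @Cfsg.Agent.MO.S.O82.mosZ = f} := ⟨_, by first | (delta Cfsg.Agent.MO.S.O82.mosZ; rewrite [Cfsg.Agent.LsF.fe678a6_27.2]; exact rfl) | exact rfl⟩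
private noncomputable def _root_.Cfsg.Agent.LsF.fe678a6_29 : {f // @Cfsg.Agent.MO.S.O82.colOK = f} := ⟨_, by first | (delta Cfsg.Agent.MO.S.O82.colOK; rewrite [Cfsg.Agent.LsF.fe678a6_16.2, Cfsg.Agent.LsF.fe678a6_17.2, Cfsg.Agent.LsF.fe678a6_21.2, Cfsg.Agent.LsF.fe678a6_24.2, Cfsg.Agent.LsF.fe678a6_25.2, Cfsg.Agent.LsF.fe678a6_26.2, Cfsg.Agent.LsF.fe678a6_28.2, Cfsg.Agent.LsF.fe678a6_7.2, Cfsg.Agent.LsF.iadd_pat, Cfsg.Agent.LsF.imul_pat, Cfsg.Agent.LsF.isub_pat, Cfsg.Agent.LsF.and_eq, Cfsg.Agent.LsF.map_eq]; exact rfl) | exact rfl⟩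
private noncomputable def _root_.Cfsg.Agent.LsF.fe678a6_30 : {f // @Cfsg.Agent.MO.S.O82.colsOK = f} := ⟨_, by first | (delta Cfsg.Agent.MO.S.O82.colsOK; rewrite [Cfsg.Agent.LsF.fe678a6_0.2, Cfsg.Agent.LsF.fe678a6_29.2, Cfsg.Agent.LsF.nadd_pat]; exact rfl) | exact rfl⟩
private noncomputable def _root_.Cfsg.Agent.LsF.fe678a6_31 : {f // @Cfsg.Agent.MO.S.O82.C8 = f} := ⟨_, by first | (delta Cfsg.Agent.MO.S.O82.C8; rewrite [Cfsg.Agent.LsF.fe678a6_12.2, Cfsg.Agent.LsF.map_eq]; exact rfl) | exact rfl⟩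
theorem up8_16 : Up L8 d8 ms8 C8 E8.e T8 16 :=
  Up.step (k := 0) (m := 16) (Up.zero _) (by ((try (rewrite [Cfsg.Agent.LsF.fe678a6_30.2, Cfsg.Agent.LsF.fe678a6_31.2, Cfsg.Agent.LsF.fe678a6_14.2, Cfsg.Agent.LsF.fe678a6_13.2])); decide +kernel))

theorem up8_32 : Up L8 d8 ms8 C8 E8.e T8 32 :=
  Up.step (k := 16) (m := 16) up8_16 (by ((try (rewrite [Cfsg.Agent.LsF.fe678a6_30.2, Cfsg.Agent.LsF.fe678a6_31.2, Cfsg.Agent.LsF.fe678a6_14.2, Cfsg.Agent.LsF.fe678a6_13.2])); decide +kernel))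

theorem up8_48 : Up L8 d8 ms8 C8 E8.e T8 48 :=
  Up.step (k := 32) (m := 16) up8_32 (by ((try (rewrite [Cfsg.Agent.LsF.fe678a6_30.2, Cfsg.Agent.LsF.fe678a6_31.2, Cfsg.Agent.LsF.fe678a6_14.2, Cfsg.Agent.LsF.fe678a6_13.2])); decide +kernel))

theorem up8_64 : Up L8 d8 ms8 C8 E8.e T8 64 :=
  Up.step (k := 48) (m := 16) up8_48 (by ((try (rewrite [Cfsg.Agent.LsF.fe678a6_30.2, Cfsg.Agent.LsF.fe678a6_31.2, Cfsg.Agent.LsF.fe678a6_14.2, Cfsg.Agent.LsF.fe678a6_13.2])); decide +kernel))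

theorem up8_80 : Up L8 d8 ms8 C8 E8.e T8 80 :=
  Up.step (k := 64) (m := 16) up8_64 (by ((try (rewrite [Cfsg.Agent.LsF.fe678a6_30.2, Cfsg.Agent.LsF.fe678a6_31.2, Cfsg.Agent.LsF.fe678a6_14.2, Cfsg.Agent.LsF.fe678a6_13.2])); decide +kernel))

theorem up8_96 : Up L8 d8 ms8 C8 E8.e T8 96 :=
  Up.step (k := 80) (m := 16) up8_80 (by ((try (rewrite [Cfsg.Agent.LsF.fe678a6_30.2, Cfsg.Agent.LsF.fe678a6_31.2, Cfsg.Agent.LsF.fe678a6_14.2, Cfsg.Agent.LsF.fe678a6_13.2])); decide +kernel))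

theorem up8_112 : Up L8 d8 ms8 C8 E8.e T8 112 :=
  Up.step (k := 96) (m := 16) up8_96 (by ((try (rewrite [Cfsg.Agent.LsF.fe678a6_30.2, Cfsg.Agent.LsF.fe678a6_31.2, Cfsg.Agent.LsF.fe678a6_14.2, Cfsg.Agent.LsF.fe678a6_13.2])); decide +kernel))

end Cfsg.Agent.MO.S.O82
end

-- part: MO/S/O82/Glob
section
/-!
# MO, the faithful characters of `p'`-degree of `W(E₈)` and of `2.Ω₈⁺(2)` (helper65)
-/

set_option autoImplicit false

namespace Cfsg.Agent.MO.S.O82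

open Cfsg Finset Subgroup Cfsg.Agent.LV.W Cfsg.Agent.OddHalf.D9.EEight Cfsg.Agent.OddHalf.D9.EEight.Id
  Cfsg.Agent.MO.S.Cov2 Cfsg.Agent.MO.T
open Cfsg.Agent.TAB.Eng (mlt sdeg)

/-- the row `y` vanishes outside the rotation subgroup -/
noncomputable def van (y : ℕ) : Bool := allLt 112 fun k => eqZ (sg d8 256 (E8.e k)) 1 || eqZ (ga T8 k y) 0

theorem glob {p a b : ℕ} [Fact p.Prime] (hp : p ≠ 2)
    (ha : (∑ y ∈ range (45 + 0), if ¬ p ∣ (sdeg 45 (fun _ => 0) (nth 0 b8) y).natAbs then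
      mlt 45 (nth 0 (List.replicate 45 1)) (fun _ => 0) y else 0) = a)
    (hb : (∑ y ∈ range (45 + 0), if ¬ p ∣ (sdeg 45 (fun _ => 0) (nth 0 b8) y).natAbs ∧ van y = true then
      mlt 45 (nth 0 (List.replicate 45 1)) (fun _ => 0) y else 0) = b) {l : W → ℂ} (hl : Fl W l) :
    kk p ⊤ (center W) l = a ∧ 2 * kk p K₀ (center W) l = a + 3 * b := by
  have := Fintype.ofFinite W
  obtain ⟨h1, ix, h2⟩ := enum cl8 bot_le center_W Onto.neg_ne_one ρW_neg sW_neg lt8 sg8 (by decide +kernel) (by decide)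
    (ms := ms8) (C := C8) (by decide +kernel) (by decide +kernel) up8_112 (card_W ▸ gram8) hl
  have h3 := (h2.kk p).trans ha
  refine ⟨h3, ?_⟩
  rw [kk_sign hp le_top ((relIndex_top_right _).trans index_K) (fun z hz u _ => mem_center_iff.1 hz u)
    (center_K ▸ map_subtype_le _), h3, ← hb, ← h2.card (r := fun θ => ¬ p ∣ charDegree θ ∧ ∀ u ∉ K₀, θ u = 0) _ fun χ => ?_,
    card_congr topEquiv (q := fun θ => (∀ z ∈ center W, θ z = l z * θ 1) ∧ ∀ u ∉ K₀, θ u = 0) fun θ _ =>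
      and_congr ⟨fun h z hz => h ⟨z, trivial⟩ hz, fun h (z : (⊤ : Subgroup W)) hz => h z hz⟩
        ⟨fun h u hu => h ⟨u, trivial⟩ hu, fun h (u : (⊤ : Subgroup W)) hu => h u hu⟩]
  · exact congrArg (fun t => a + 3 * t) (Nat.card_congr (Equiv.subtypeEquivRight fun θ =>
      ⟨fun h => ⟨h.1.1, h.2.1, h.1.2, h.2.2⟩, fun h => ⟨⟨h.1, h.2.2.1⟩, h.2.1, h.2.2.2⟩⟩))
  · have h4 : ix χ < 45 := h2.lt χ
    have h5 : ∀ x, row ρW sW ms8 C8 (ix χ) x = (χ.1 : W → ℂ) x := fun x => by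
      rw [h2.eq_row χ h4 (gen_row _ _ _ _ _) ((h1 _ h4).trans (by
          rw [(by decide : ∀ j < 45, nth 0 (List.replicate 45 1) j = 1) _ h4, Nat.cast_one])),
        (by decide +kernel : ∀ j < 45, (nth 0 b8 j).sign = 1) _ h4, Int.cast_one, one_mul]
    have h6 := fun k hk => up8_112.val lt8 sg8 (by decide +kernel) (k := k) hk (ix χ)
    rw [h2.deg]
    refine and_congr_right fun _ => ?_
    simp only [van, allLt_iff, Bool.or_eq_true, eqZ_iff, ← h5, ← sg_eq (dl := d8) sg8, mem_K]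
    refine ⟨fun h k hk => or_iff_not_imp_left.2 fun e => Int.cast_eq_zero.1 ((h6 k hk).symm.trans (h _ e)), fun h u hu => ?_⟩
    obtain ⟨k, hk, e⟩ := cl8.cover u
    have h7 := e _ ⟨H447.CTab.gen_classFunction (gen_lin sW), fun z hz x => by rw [mem_bot.1 hz, one_mul]⟩
    rw [e _ ⟨H447.CTab.gen_classFunction (gen_row _ _ _ _ _), fun z hz x => by rw [mem_bot.1 hz, one_mul]⟩, h6 k hk,
      (h k hk).resolve_left fun e => hu ((Int.cast_injective h7).trans e), Int.cast_zero]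

theorem glob3 {l : W → ℂ} (hl : Fl W l) : kk 3 ⊤ (center W) l = 27 ∧ kk 3 K₀ (center W) l = 18 :=
  (glob (b := 3) (by decide) (by decide +kernel) (by decide +kernel) hl).imp_right fun h => by omega

theorem glob5 {l : W → ℂ} (hl : Fl W l) : kk 5 ⊤ (center W) l = 20 ∧ kk 5 K₀ (center W) l = 16 :=
  haveI := Fact.mk Nat.prime_five
  (glob (b := 4) (by decide) (by decide +kernel) (by decide +kernel) hl).imp_right fun h => by omega

end Cfsg.Agent.MO.S.O82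
end

-- part: MO/S/O82/Main
section
/-!
# MO, the small rows of `2.Ω₈⁺(2)` for the primes 3 and 5 (helper65; data from `tools/P3/o82`)

* `MO.X.o82_2_3`, `MO.X.o82_2_5` : the fields of `ExcIn`.
-/

set_option autoImplicit false
set_option maxRecDepth 100000

namespace Cfsg.Agent.MO.S.O82

open Cfsg Subgroup Cfsg.Agent.LV.W Cfsg.Agent.OddHalf.D9.EEight Cfsg.Agent.OddHalf.D9.EEight.Id Cfsg.Agent.MO.T
  Cfsg.Agent.MO.L Cfsg.Agent.MO.S.Pc
open Cfsg.Agent.MK.S.Pc (ev ev_nil ev_cons ev_append V mem_V V_le inR inR_mem)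

/-- the sign of a word in the new letters -/
noncomputable def sgw (ws w : List ℕ) : ℤ := List.rec 1 (fun a _ ih => Int.mul (sg d8 256 (nth 1 ws a)) ih) w

theorem sgw_eq (ws w : List ℕ) : sW (ev (lts a8 ws) w) = sgw ws w := by
  induction w with
  | nil => exact map_one sW
  | cons a w ih => rw [ev_cons, map_mul, ih, lts, sg_eq (dl := d8) sg8]; rfl

theorem cent8 (k : ℕ) (hk : k < 112) {b : ℕ} (h : 696729600 < (b + 1 : ℕ) * nth 0 E8.nW k) :
    Nat.card (centralizer ({wrd a8 256 (E8.e k)} : Set W)) ≤ b := by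
  have := Fintype.ofFinite W
  have h0 : ∀ k < 112, 0 ≤ nth 0 E8.nW k := by decide +kernel
  have h1 := cl8.cent bot_le h0 (wrd a8 256 (E8.e k)) {k} fun j hj => by
    rw [Finset.mem_singleton.1 hj]
    exact ⟨hk, 1, one_mem _, by rw [one_mul]⟩
  rw [Finset.sum_singleton, card_bot, Nat.cast_one, one_mul] at h1
  exact Nat.lt_succ_iff.1 (Nat.cast_lt.1 (lt_of_mul_lt_mul_right (h1.trans_lt h) (h0 k hk)))

/-- **the assembly** -/
theorem sm8 {p n m o k r₁ r₁' r₂ r₂' : ℕ} [Fact p.Prime] (hp : p ≠ 2) {ws : List ℕ} {L : List (List (List ℤ))}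
    (hL : Lt (ρW.comp (MonoidHom.id W)) (lts a8 ws) L) {c : Cert} (h1 : Pc.chk (eqv L) p n m c = true)
    (hx : expC n m c = true) (hb : lbOK L p n = true) (hG : 696729600 = p ^ n * o) (ho : ¬ p ∣ o)
    (hn : ∀ P : Sylow p W, (P : Subgroup W) = V (lts a8 ws) n 0 →
      Nat.card (normalizer (V (lts a8 ws) n 0 : Set W)) ≤ p ^ n * (2 * (2 * k)))
    {gs gs' : List (List ℕ)} {RR RR' : List (List (List ℕ))} {O O' : List (List ℤ)} {σs σs' : List (List ℕ)}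
    (hg : genOK L n gs RR O σs = true) (hg' : genOK L n gs' RR' O' σs' = true)
    (hs : (allLt n (fun i => eqZ (sgw ws [i]) 1) && allLt RR'.length (fun i => eqZ (sgw ws (gs'.getD i [])) 1) &&
      Nat.blt 0 RR.length && eqZ (sgw ws (gs.getD 0 [])) (-1)) = true) {pe pm pe' pm' : List ℕ}
    (c1 : chkE p m O.length RR.length RR σs (idW RR.length) (idM m) pe (2 * (2 * k)) (r₁' + r₁) = true)
    (c2 : chkM p m RR (idM m) pm (2 * k) r₁' = true)
    (c3 : chkE p m O'.length RR'.length RR' σs' (idW RR'.length) (idM m) pe' (2 * k) (r₂' + r₂) = true)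
    (c4 : chkM p m RR' (idM m) pm' k r₂' = true)
    (gl : ∀ l, Fl W l → kk p ⊤ (center W) l = r₁ ∧ kk p K₀ (center W) l = r₂) : Sm p K₀ := by
  have hi : Function.Injective (MonoidHom.id W) := fun _ _ h => h
  simp only [Bool.and_eq_true, allLt_iff, eqZ_iff, ← sgw_eq, Nat.blt_eq, ← mem_K, ev_cons, ev_nil, mul_one] at hs
  obtain ⟨⟨⟨s1, s2⟩, s3⟩, s4⟩ := hs
  obtain ⟨P, hP⟩ := (pc_of_chk (eqv_sound hi hL) h1).sylow (hL.nf hb).1 (card_W.trans hG) ho
  have h2 := card_two center_W Onto.neg_ne_one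
  have h3 : V (lts a8 ws) n 0 ≤ K₀ := V_le fun i _ hi => s1 i hi
  have h4 := gen_norm hi hL hg s3
  have h5 : ev (lts a8 ws) (gs.getD 0 []) ∉ K₀ := fun e => by
    rw [mem_K, s4] at e
    omega
  have h6 := hn P hP
  refine sm_of_over hp index_K center_K RowFinal.autConj P (hP ▸ h3) (hP ▸ h4) h5 (fun l hl => ?_) fun l hl => ?_
  · rw [(gl l hl).1, hP, kk_pc hi hL hp h2 h1 hx hb le_normalizer (center_le_normalizer _) le_rfl h6 hg
      (fun i => gen_norm hi hL hg) c1 c2 hl]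
  · rw [(gl l hl).2, hP, kk_pc hi hL hp h2 h1 hx hb (le_inf le_normalizer h3)
      (le_inf (center_le_normalizer _) (center_K ▸ map_subtype_le _)) inf_le_left ?_ hg'
      (fun i h => ⟨gen_norm hi hL hg' h, s2 i h⟩) c3 c4 hl]
    rw [← card_inf_two index_K h4 h5, mul_left_comm] at h6
    omega

theorem smC8 {p : ℕ} [Fact p.Prime] (h : Sm p K₀) (F : Type) [Field F] [Fintype F] (hF : Fintype.card F = 2) :
    SmC p 2 (POmega F (quadFormPlus 4 F)) := fun X _ _ φ v _ => by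
  have e := (QuotientGroup.quotientMulEquivOfEq v.ker.symm).trans (QuotientGroup.quotientKerEquivOfSurjective φ v.surj)
  have := S0296.result (F := F) 4 le_rfl
  obtain ⟨f⟩ := H42.DM.o8_equiv ⟨⟨v.perf⟩, e.isSimpleGroup⟩ hF e v.card
  exact sm_congr f h

/-! ### the prime 3 -/

def ws3 : List ℕ := [
    0x14520, 0x134321321, 0x176543213456023451342302134567654321345602345134230213456, 0x1234513423021340210,
    0x1203204312345431203243154, 0x1765432134560234513423021345676543213456023451342302134567,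
    0x17654321345602345134230213456765432134560234513423021345676543213456023451342302134563423021345213430213,
    0x16543213456023451342302134565432134542302134302130210,
    0x1765432134560234513423021345676543213456023451342302134567654321345602345134230213456023451342302134513423021342302130210,
    0x154, 0x145]

def L3 : List (List (List ℤ)) := [
    [[-1, 0, -1, 0, 0, 0, 0, 0], [0, 1, 0, 0, 0, 0, 0, 0], [1, 0, 0, 0, 0, 0, 0, 0], [0, 0, 1, 1, 1, 0, 0, 0],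
     [0, 0, 0, 0, 0, 1, 0, 0], [0, 0, 0, 0, -1, -1, 0, 0], [0, 0, 0, 0, 1, 1, 1, 0], [0, 0, 0, 0, 0, 0, 0, 1]],
    [[1, 1, 1, 2, 1, 0, 0, 0], [0, 0, -1, -1, 0, 0, 0, 0], [0, -1, 0, -1, 0, 0, 0, 0], [0, 0, 0, 0, -1, 0, 0, 0],
     [0, 1, 1, 1, 1, 0, 0, 0], [0, 0, 0, 1, 1, 1, 0, 0], [0, 0, 0, 0, 0, 0, 1, 0], [0, 0, 0, 0, 0, 0, 0, 1]],
    [[1, 0, 0, 0, 0, 0, 0, 0], [0, 1, 0, 0, 0, 0, 0, 0], [0, 0, 1, 0, 0, 0, 0, 0], [0, 0, 0, 1, 0, 0, 0, 0],
     [0, 0, 0, 0, 1, 0, 0, 0], [0, 0, 0, 0, 0, 1, 0, 0], [-2, -3, -4, -6, -5, -4, -2, -1], [2, 3, 4, 6, 5, 4, 3, 1]],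
    [[0, 0, 0, 0, -1, 0, 0, 0], [-1, 0, -1, 0, 0, 0, 0, 0], [0, 0, 0, 0, 0, -1, 0, 0], [1, 0, 1, 1, 1, 1, 0, 0],
     [-1, -1, -2, -3, -2, -1, 0, 0], [1, 2, 2, 3, 2, 1, 0, 0], [0, 0, 1, 1, 1, 1, 1, 0], [0, 0, 0, 0, 0, 0, 0, 1]],
    [[-1, 0, -1, 0, 0, 0, 0, 0], [-1, -2, -2, -3, -2, -1, 0, 0], [1, 0, 0, 0, 0, 0, 0, 0], [0, 1, 1, 1, 1, 1, 0, 0],
     [0, 0, 0, 0, -1, -1, 0, 0], [0, 0, 0, 0, 1, 0, 0, 0], [1, 1, 2, 3, 2, 2, 1, 0], [0, 0, 0, 0, 0, 0, 0, 1]],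
    [[1, 0, 0, 0, 0, 0, 0, 0], [0, 1, 0, 0, 0, 0, 0, 0], [0, 0, 1, 0, 0, 0, 0, 0], [0, 0, 0, 1, 0, 0, 0, 0],
     [0, 0, 0, 0, 1, 0, 0, 0], [0, 0, 0, 0, 0, 1, 0, 0], [0, 0, 0, 0, 0, 0, 1, 0], [-2, -3, -4, -6, -5, -4, -3, -1]],
    [[1, 0, 1, 1, 1, 1, 0, 0], [0, 1, 1, 1, 1, 1, 0, 0], [0, 1, 0, 1, 1, 0, 0, 0], [-1, -2, -2, -3, -2, -1, 0, 0],
     [1, 1, 2, 2, 1, 0, 0, 0], [0, 0, -1, -1, -1, 0, 0, 0], [-1, -1, -1, -1, -1, -1, -1, 0], [0, 0, 0, 0, 0, 0, 0, -1]],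
    [[-1, 0, -1, -1, -1, -1, 0, 0], [0, 0, -1, -1, -1, 0, 0, 0], [0, -1, 0, -1, -1, 0, 0, 0], [0, 0, 0, 0, 1, 0, 0, 0],
     [0, 0, 0, 1, 0, 0, 0, 0], [0, 1, 1, 1, 1, 1, 0, 0], [0, -1, -1, -2, -2, -2, -1, 0], [2, 3, 4, 6, 5, 4, 3, 1]],
    [[-1, 0, 0, 0, 0, 0, 0, 0], [0, -1, 0, 0, 0, 0, 0, 0], [0, 0, -1, 0, 0, 0, 0, 0], [0, 0, 0, -1, 0, 0, 0, 0],
     [0, 0, 0, 0, -1, 0, 0, 0], [0, 0, 0, 0, 0, -1, 0, 0], [0, 0, 0, 0, 0, 0, -1, 0], [0, 0, 0, 0, 0, 0, 0, -1]],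
    [[1, 0, 0, 0, 0, 0, 0, 0], [0, 1, 0, 0, 0, 0, 0, 0], [0, 0, 1, 0, 0, 0, 0, 0], [0, 0, 0, 1, 1, 1, 0, 0],
     [0, 0, 0, 0, -1, -1, 0, 0], [0, 0, 0, 0, 1, 0, 0, 0], [0, 0, 0, 0, 0, 1, 1, 0], [0, 0, 0, 0, 0, 0, 0, 1]],
    [[1, 0, 0, 0, 0, 0, 0, 0], [0, 1, 0, 0, 0, 0, 0, 0], [0, 0, 1, 0, 0, 0, 0, 0], [0, 0, 0, 1, 1, 0, 0, 0],
     [0, 0, 0, 0, 0, 1, 0, 0], [0, 0, 0, 0, -1, -1, 0, 0], [0, 0, 0, 0, 1, 1, 1, 0], [0, 0, 0, 0, 0, 0, 0, 1]]]

def ct3 : Cert where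
  pw := [[], [], [], [], []]
  cm := [[[], [3], [], [4], []], [[], [], [], [], []], [[], [], [], [], []], [[], [], [], [], []], [[], [], [], [], []]]
  dv := [([], [], []), ([], [], []), ([], [], []), ([0], [1], []), ([0], [3], [])]

def gs3 : List (List ℕ) := [[5], [6], [7], [8]]

def RR3 : List (List (List ℕ)) := [
    [[1], [0, 1], [0, 0, 2], [0, 0, 0, 1], [0, 0, 0, 0, 1]],
    [[2, 0, 0, 2, 2], [0, 2, 0, 1, 2], [0, 0, 1], [0, 0, 0, 1, 1], [0, 0, 0, 0, 2]],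
    [[1, 0, 0, 1, 1], [0, 2], [0, 0, 2], [0, 0, 0, 2], [0, 0, 0, 0, 2]],
    [[1], [0, 1], [0, 0, 1], [0, 0, 0, 1], [0, 0, 0, 0, 1]]]

def O3 : List (List ℤ) := [
    [0, 0, 0, 0, 1, 1, 1, 0], [0, 0, 0, 0, -1, -1, -1, 0]]

def σ3 : List (List ℕ) := [
    [0, 1], [1, 0], [1, 0], [1, 0]]

def pe3 : List ℕ := [
    1, 2, 3, 4, 0, 0, 4, 0, 0, 3, 4, 0, 0, 4, 0, 0, 2, 3, 4, 0, 0, 4, 0, 0, 3, 4, 0, 0, 4]

def pm3 : List ℕ := [
    1, 2, 3, 0, 0, 3, 0, 0, 2, 3, 0, 0, 3]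

def gs3K : List (List ℕ) := [[7], [8], [5, 6]]

def RR3K : List (List (List ℕ)) := [
    [[1, 0, 0, 1, 1], [0, 2], [0, 0, 2], [0, 0, 0, 2], [0, 0, 0, 0, 2]],
    [[1], [0, 1], [0, 0, 1], [0, 0, 0, 1], [0, 0, 0, 0, 1]],
    [[2, 0, 0, 2, 2], [0, 2, 0, 1, 2], [0, 0, 2], [0, 0, 0, 1, 1], [0, 0, 0, 0, 2]]]

def O3K : List (List ℤ) := [
    [0, 0, 0, 0, 1, 1, 1, 0], [0, 0, 0, 0, -1, -1, -1, 0]]

def σ3K : List (List ℕ) := [
    [1, 0], [1, 0], [1, 0]]

def pe3K : List ℕ := [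
    1, 2, 3, 0, 0, 3, 0, 0, 2, 3, 0, 0, 3]

def pm3K : List ℕ := [
    1, 3, 0, 0, 3]

theorem lt3 : Lt (ρW.comp (MonoidHom.id W)) (lts a8 ws3) L3 := lt8.lts (by decide +kernel)

theorem pc3 : Pc.chk (eqv L3) 3 5 3 ct3 = true := by decide +kernel

private noncomputable def _root_.Cfsg.Agent.LsF.fe678a6_36 : {f // @Cfsg.Agent.MO.S.Pc.pwd = f} := ⟨_, by first | (delta Cfsg.Agent.MO.S.Pc.pwd; rewrite [Cfsg.Agent.LsF.flatMap_eq, Cfsg.Agent.LsF.replicate_eq, Cfsg.Agent.LsF.range_eq, Cfsg.Agent.LsF.getD_eq, Cfsg.Agent.LsF.length_eq]; exact rfl) | exact rfl⟩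
private noncomputable def _root_.Cfsg.Agent.LsF.fe678a6_37 : {f // @Cfsg.Agent.MO.S.O82.nfw = f} := ⟨_, by first | (delta Cfsg.Agent.MO.S.O82.nfw; rewrite [Cfsg.Agent.LsF.fe678a6_36.2, Cfsg.Agent.LsF.ndiv_pat, Cfsg.Agent.LsF.nmod_pat, Cfsg.Agent.LsF.npow_pat, Cfsg.Agent.LsF.map_eq, Cfsg.Agent.LsF.range_eq]; exact rfl) | exact rfl⟩
private noncomputable def _root_.Cfsg.Agent.LsF.fe678a6_38 : {f // @Cfsg.Agent.MO.S.O82.hs = f} := ⟨_, by first | (delta Cfsg.Agent.MO.S.O82.hs; rewrite [Cfsg.Agent.LsF.fe678a6_8.2, Cfsg.Agent.LsF.iadd_pat, Cfsg.Agent.LsF.imul_pat, Cfsg.Agent.LsF.toNat_eq]; exact rfl) | exact rfl⟩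
private noncomputable def _root_.Cfsg.Agent.LsF.fe678a6_39 : {f // @Cfsg.Agent.MO.S.O82.apw = f} := ⟨_, by first | (delta Cfsg.Agent.MO.S.O82.apw; rewrite [Cfsg.Agent.LsF.fe678a6_23.2]; exact rfl) | exact rfl⟩
private noncomputable def _root_.Cfsg.Agent.LsF.fe678a6_40 : {f // @Cfsg.Agent.MO.S.O82.hw = f} := ⟨_, by first | (delta Cfsg.Agent.MO.S.O82.hw; rewrite [Cfsg.Agent.LsF.fe678a6_38.2, Cfsg.Agent.LsF.fe678a6_39.2]; exact rfl) | exact rfl⟩
private noncomputable def _root_.Cfsg.Agent.LsF.fe678a6_41 : {f // @Cfsg.Agent.MO.S.O82.Q5.nd = f} := ⟨_, by first | (delta Cfsg.Agent.MO.S.O82.Q5.nd; rewrite [Cfsg.Agent.LsF.and_eq]; exact rfl) | exact rfl⟩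
private noncomputable def _root_.Cfsg.Agent.LsF.fe678a6_42 : {f // @Cfsg.Agent.MO.S.O82.lbOK = f} := ⟨_, by first | (delta Cfsg.Agent.MO.S.O82.lbOK; rewrite [Cfsg.Agent.LsF.fe678a6_37.2, Cfsg.Agent.LsF.fe678a6_40.2, Cfsg.Agent.LsF.fe678a6_41.2, Cfsg.Agent.LsF.npow_pat, Cfsg.Agent.LsF.map_eq, Cfsg.Agent.LsF.range_eq]; exact rfl) | exact rfl⟩
theorem lb3 : lbOK L3 3 5 = true := by ((try (rewrite [Cfsg.Agent.LsF.fe678a6_42.2])); decide +kernel)

theorem sm3 : Sm 3 K₀ := by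
  have hi : Function.Injective (MonoidHom.id W) := fun _ _ h => h
  have he := eqv_sound hi lt3
  refine sm8 (o := 2867200) (k := 4) (r₁' := 27) (r₂' := 18) (gs := gs3) (gs' := gs3K) (RR := RR3) (RR' := RR3K) (O := O3)
    (O' := O3K) (σs := σ3) (σs' := σ3K) (pe := pe3) (pm := pm3) (pe' := pe3K) (pm' := pm3K) (by decide) lt3 pc3
    (by decide +kernel) lb3 (by decide) (by decide) (fun P hP => ?_) (by decide +kernel) (by decide +kernel)
    (by decide +kernel) (by decide +kernel) (by decide +kernel) (by decide +kernel) (by decide +kernel) fun _ => glob3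
  have h1 := norm_comm he pc3
  have h2 := norm_low he pc3 (k := 3) (l := 4) (by decide +kernel) h1
  rw [PC.last 4 rfl] at h2
  have h3 := card_le_of_zpowers (order_last (pc_of_chk he pc3) (lt3.nf lb3).1) le_rfl
  have h4 := card_inf_le P (hP ▸ le_normalizer.trans h2) (a := ev (lts a8 ws3) [9]) (mem_normalizer_zpowers (by
    simpa only [ev_cons, ev_nil, mul_one] using he [9, 4] [4, 9] (by decide +kernel)))
    fun e => not_norm hi lt3 (a' := [10]) (x := [3]) (z := [3]) (by decide +kernel) (h1 (hP ▸ e))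
  have h5 := cent8 47 (by decide) (b := 7776) (by decide +kernel)
  rw [show wrd a8 256 (E8.e 47) = lts a8 ws3 4 from congrArg (wrd a8 256) (by decide +kernel)] at h5
  rw [hP, inf_eq_left.2 h2] at h4
  omega

/-! ### the prime 5 -/

def ws5 : List ℕ := [
    0x17654, 0x134560234513423021345676543213456023451342321,
    0x154302134567654321345602345134230213456756451342302134562302134540,
    0x154230213456754321345654321345321343213020, 0x11]

def L5 : List (List (List ℤ)) := [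
    [[1, 0, 0, 0, 0, 0, 0, 0], [0, 1, 0, 0, 0, 0, 0, 0], [0, 0, 1, 0, 0, 0, 0, 0], [0, 0, 0, 1, 1, 1, 1, 1],
     [0, 0, 0, 0, -1, -1, -1, -1], [0, 0, 0, 0, 1, 0, 0, 0], [0, 0, 0, 0, 0, 1, 0, 0], [0, 0, 0, 0, 0, 0, 1, 0]],
    [[2, 2, 4, 5, 4, 3, 2, 1], [-2, -3, -3, -5, -4, -3, -2, -1], [-1, 0, -1, 0, 0, 0, 0, 0], [1, 1, 1, 1, 0, 0, 0, 0],
     [0, 0, 0, 0, 1, 0, 0, 0], [0, 0, 0, 0, 0, 1, 0, 0], [0, 0, 0, 0, 0, 0, 1, 0], [0, 0, 0, 0, 0, 0, 0, 1]],
    [[0, 0, 0, 0, -1, 0, 0, 0], [0, 0, 0, 0, 0, 0, 1, 1], [0, 0, 0, 0, 1, 1, 1, 0], [1, 2, 2, 3, 2, 1, 0, 0],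
     [0, -1, 0, 0, 0, 0, 0, 0], [-1, -2, -3, -5, -4, -3, -2, -1], [-1, 0, -1, 0, 0, 0, 0, 0], [0, 0, 1, 0, 0, 0, 0, 0]],
    [[0, -1, 0, 0, 0, 0, 0, 0], [1, 0, 0, 0, 0, 0, 0, 0], [-2, -2, -4, -5, -4, -3, -2, -1], [1, 2, 3, 4, 3, 3, 2, 1],
     [0, 0, 0, 0, 1, 0, 0, 0], [0, 0, 0, 0, -1, -1, -1, -1], [0, 0, 0, 0, 0, 0, 0, 1], [0, 0, 0, 0, 0, 0, 1, 0]],
    [[1, 0, 0, 0, 0, 0, 0, 0], [0, -1, 0, 0, 0, 0, 0, 0], [0, 0, 1, 0, 0, 0, 0, 0], [0, 1, 0, 1, 0, 0, 0, 0],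
     [0, 0, 0, 0, 1, 0, 0, 0], [0, 0, 0, 0, 0, 1, 0, 0], [0, 0, 0, 0, 0, 0, 1, 0], [0, 0, 0, 0, 0, 0, 0, 1]]]

def ct5 : Cert where
  pw := [[], []]
  cm := [[[], []], [[], []]]
  dv := [([], [], []), ([], [], [])]

def gs5 : List (List ℕ) := [[2], [3]]

def RR5 : List (List (List ℕ)) := [
    [[0, 1], [2]], [[4], [0, 3]]]

def O5 : List (List ℤ) := [
    [2, 2, 4, 4, 3, 2, 1, 1], [1, 1, 2, 2, 2, 2, 2, 0], [-2, -2, -4, -4, -3, -2, -1, -1],
    [-1, -1, -2, -2, -2, -2, -2, 0]]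

def σ5 : List (List ℕ) := [
    [1, 2, 3, 0], [2, 3, 0, 1]]

def pe5 : List ℕ := [
    1, 1, 1, 1, 1, 1, 1, 2, 1, 2, 0, 0, 0, 0, 2, 1, 2, 0, 0, 0, 0, 2, 1, 2, 0, 0, 0, 0, 2, 1, 2, 0, 0, 2, 2, 0, 0, 0,
    0, 2, 1, 2, 2, 2, 0, 0, 0, 0, 2, 2, 1, 2, 0, 0, 0, 0, 0, 0, 2, 1, 2, 2, 2, 0, 0, 0, 0, 2, 1, 2, 0, 0, 2, 1, 2, 0,
    0, 0, 0, 0, 0, 2, 1, 2, 2, 2, 0, 0, 0, 0, 2, 1, 2, 0, 0, 2, 1, 2, 0, 0, 0, 0, 0, 0, 2, 1, 2, 2, 2, 0, 0, 0, 0, 2,
    1, 2, 0, 0, 2, 1, 2]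

def pm5 : List ℕ := [
    1, 1, 1, 1, 1, 1, 1, 0, 2, 0, 0, 2, 0, 0, 2, 1, 0, 2, 0, 0, 0, 2, 1, 0, 2, 0, 0, 0, 2, 1, 0, 2, 1, 0, 2, 0, 0, 0,
    0, 2, 1, 0, 2, 1, 0, 2, 0, 0, 0, 0, 2, 1, 0, 2, 1, 0, 2, 1]

def gs5K : List (List ℕ) := [[2, 3, 2, 3, 3, 3], [2, 2, 2, 3, 3, 3, 2, 3], [2, 2, 3, 2]]

def RR5K : List (List (List ℕ)) := [
    [[4], [0, 1]], [[2], [0, 3]], [[0, 1], [1]]]

def O5K : List (List ℤ) := [
    [2, 2, 4, 4, 3, 2, 1, 1], [-2, -2, -4, -4, -3, -2, -1, -1], [1, 1, 2, 2, 2, 2, 2, 0],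
    [-1, -1, -2, -2, -2, -2, -2, 0]]

def σ5K : List (List ℕ) := [
    [1, 0, 3, 2], [0, 1, 2, 3], [2, 3, 1, 0]]

def pe5K : List ℕ := [
    1, 2, 2, 2, 0, 0, 3, 3, 3, 0, 0, 0, 0, 3, 1, 3, 3, 0, 0, 0, 2, 3, 3, 0, 0, 0, 3, 3, 0, 0, 0, 0, 2, 2, 2, 0, 0, 3,
    3, 3, 0, 0, 0, 0, 3, 1, 3, 3, 0, 0, 0, 2, 3, 3, 0, 0, 0, 3, 3]

def pm5K : List ℕ := [
    1, 2, 2, 2, 0, 0, 3, 0, 0, 3, 1, 0, 2, 0, 0, 0, 2, 2, 2, 0, 0, 3, 0, 0, 3, 1, 0, 2]

theorem lt5 : Lt (ρW.comp (MonoidHom.id W)) (lts a8 ws5) L5 := lt8.lts (by decide +kernel)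

theorem pc5 : Pc.chk (eqv L5) 5 2 2 ct5 = true := by decide +kernel

theorem lb5 : lbOK L5 5 2 = true := by decide +kernel

theorem sm5 : Sm 5 K₀ := by
  have := Fact.mk Nat.prime_five
  have hi : Function.Injective (MonoidHom.id W) := fun _ _ h => h
  have he := eqv_sound hi lt5
  refine sm8 (o := 27869184) (k := 16) (r₁' := 20) (r₂' := 16) (gs := gs5) (gs' := gs5K) (RR := RR5) (RR' := RR5K) (O := O5)
    (O' := O5K) (σs := σ5) (σs' := σ5K) (pe := pe5) (pm := pm5) (pe' := pe5K) (pm' := pm5K) (by decide) lt5 pc5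
    (by decide +kernel) lb5 (by decide) (by decide) (fun P hP => ?_) (by decide +kernel) (by decide +kernel)
    (by decide +kernel) (by decide +kernel) (by decide +kernel) (by decide +kernel) (by decide +kernel) fun _ => glob5
  have cm : ∀ i, eqv L5 [i, 0] [0, i] = true → lts a8 ws5 i ∈ centralizer {lts a8 ws5 0} := fun i h =>
    mem_centralizer_singleton_iff.2 (by simpa only [ev_cons, ev_nil, mul_one] using he _ _ h)
  have h1 := card_le_orbit (normalizer (V (lts a8 ws5) 2 0 : Set W)) (lts a8 ws5 0) {1, 2, 3, 4, 5, 10, 15, 20}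
    (fun k => ev (lts a8 ws5) (nfw 5 2 k)) fun g hg => by
      obtain ⟨k, hk, e⟩ := (lt5.nf lb5).2 ((pc_of_chk he pc5).card_zero (lt5.nf lb5).1) _
        ((mem_normalizer_iff.1 hg _).1 (mem_V (i := 0) le_rfl (by decide)))
      refine ⟨k, (by decide +kernel : ∀ k < 5 ^ 2, trL (evM L5 (nfw 5 2 k)) = trL (nth oneL L5 0) →
        k ∈ ({1, 2, 3, 4, 5, 10, 15, 20} : Finset ℕ)) k hk ?_, e⟩
      rw [← (lt5.evM _).tr, ← (lt5 0).tr, ← e, map_mul, Matrix.trace_mul_comm, ← map_mul, inv_mul_cancel_left]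
  have h4 := card_inf_le P (K := centralizer {lts a8 ws5 0}) (hP ▸ V_le fun i _ hi => cm i (by revert i; decide +kernel))
    (cm 4 (by decide +kernel)) fun e => not_norm hi lt5 (n := 2) (m := 0) (a := [4]) (a' := [4]) (x := [1]) (z := [1])
      (by decide +kernel) (by simpa only [ev_cons, ev_nil, mul_one, hP] using e)
  have h5 := cent8 7 (by decide) (b := 1200) (by decide +kernel)
  rw [show wrd a8 256 (E8.e 7) = lts a8 ws5 0 from congrArg (wrd a8 256) (by decide +kernel)] at h5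
  rw [hP] at h4
  rw [show Finset.card ({1, 2, 3, 4, 5, 10, 15, 20} : Finset ℕ) = 8 from rfl] at h1
  omega

end Cfsg.Agent.MO.S.O82

namespace Cfsg.Agent.MO.X

open Cfsg Cfsg.Agent.MO.S

theorem o82_2_3 : ∀ (F : Type) [Field F] [Fintype F], Fintype.card F = 2 → SmC 3 2 (POmega F (quadFormPlus 4 F)) :=
  O82.smC8 O82.sm3

theorem o82_2_5 : ∀ (F : Type) [Field F] [Fintype F], Fintype.card F = 2 → SmC 5 2 (POmega F (quadFormPlus 4 F)) :=
  haveI := Fact.mk Nat.prime_five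
  O82.smC8 O82.sm5

end Cfsg.Agent.MO.X
end

private theorem dce_af780b0eadb7 : _root_.True := by
  try have : _root_.True := by simp only [_root_.Cfsg.Agent.MO.S.O82.van.eq_1]
  try have : _root_.True := by simp only [_root_.Cfsg.Agent.MO.S.O82.lts.eq_1]
  exact _root_.True.intro
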